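import Groth.Agent.Liaison.K976.Unmixed
import Groth.Agent.Sga3C.QSliceAlg
import Groth.Agent.LoccohB.GorBasic
import Groth.Agent.S0341
import Groth.Agent.S0343

/-!
# Local rings of quotients
-/

set_option autoImplicit false
universe u v

namespace K976.LocQuot

open K976.Unmixed IsLocalRing

variable {R : Type u} [CommRing R]

theorem nonempty_equiv (I : Ideal R) (q' : Ideal (R ⧸ I)) [hq' : q'.IsPrime]
    (q : Ideal R) [hq : q.IsPrime] (h : q'.comap (Ideal.Quotient.mk I) = q) :
    Nonempty ((Localization.AtPrime q ⧸ I.map (algebraMap R (Localization.AtPrime q))) ≃+*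
      Localization.AtPrime q') := by
  have h1 : Algebra.algebraMapSubmonoid (R ⧸ I) q.primeCompl = q'.primeCompl := by
    subst h
    ext x
    constructor
    · rintro ⟨y, hy, rfl⟩
      exact hy
    · intro hx
      obtain ⟨y, rfl⟩ := Ideal.Quotient.mk_surjective x
      exact ⟨y, hx, rfl⟩
  have h2 : IsLocalization (Algebra.algebraMapSubmonoid (R ⧸ I) q.primeCompl)
      (Localization.AtPrime q ⧸ I.map (algebraMap R (Localization.AtPrime q))) :=
    inferInstance
  rw [h1] at h2
  exact ⟨(IsLocalization.algEquiv q'.primeCompl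
      (Localization.AtPrime q ⧸ I.map (algebraMap R (Localization.AtPrime q)))
      (Localization.AtPrime q')).toRingEquiv⟩

theorem isCohenMacaulayRing_quot_iff [IsNoetherianRing R] {I : Ideal R} :
    LocCoh.IsCohenMacaulayRing (R ⧸ I) ↔ ∀ (m : Ideal R) [m.IsPrime], I ≤ m →
      LocCoh.IsCohenMacaulayLocalRing
        (Localization.AtPrime m ⧸ I.map (algebraMap R (Localization.AtPrime m))) := by
  constructor
  · intro h m _ hIm
    exact isCohenMacaulayLocalRing_quot_map m hIm h
  · intro h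
    refine { isCohenMacaulayLocalRing_localization := fun q' hq' => ?_ }
    have hle : I ≤ q'.comap (Ideal.Quotient.mk I) := by
      intro x hx
      rw [Ideal.mem_comap, Ideal.Quotient.eq_zero_iff_mem.2 hx]
      exact q'.zero_mem
    obtain ⟨e⟩ := nonempty_equiv I q' (q'.comap (Ideal.Quotient.mk I)) rfl
    have := h (q'.comap (Ideal.Quotient.mk I)) hle
    exact Groth.Agent.CalgB.CMPoly.isCohenMacaulayLocalRing_of_ringEquiv e

theorem isGorensteinRing_quot_iff [IsNoetherianRing R] {I : Ideal R} :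
    LocCoh.IsGorensteinRing (R ⧸ I) ↔ ∀ (m : Ideal R) [m.IsPrime], I ≤ m →
      LocCoh.IsGorensteinLocalRing
        (Localization.AtPrime m ⧸ I.map (algebraMap R (Localization.AtPrime m))) := by
  constructor
  · intro h m _ hIm
    have hp : (m.map (Ideal.Quotient.mk I)).IsPrime :=
      Ideal.map_isPrime_of_surjective Ideal.Quotient.mk_surjective (by rwa [Ideal.mk_ker])
    obtain ⟨e⟩ := nonempty_equiv I (m.map (Ideal.Quotient.mk I)) m (comap_map_mk_eq hIm)
    exact Groth.Agent.LoccohB.GorBasic.isGorensteinLocalRing_of_ringEquiv e.symm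
      (h.isGorensteinLocalRing_localization _)
  · intro h
    refine { isGorensteinLocalRing_localization := fun q' hq' => ?_ }
    have hle : I ≤ q'.comap (Ideal.Quotient.mk I) := by
      intro x hx
      rw [Ideal.mem_comap, Ideal.Quotient.eq_zero_iff_mem.2 hx]
      exact q'.zero_mem
    obtain ⟨e⟩ := nonempty_equiv I q' (q'.comap (Ideal.Quotient.mk I)) rfl
    exact Groth.Agent.LoccohB.GorBasic.isGorensteinLocalRing_of_ringEquiv e
      (h (q'.comap (Ideal.Quotient.mk I)) hle)

/-- `(A/J)/(f) ≃ A/(J + f)` -/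
theorem nonempty_quot_equiv (J : Ideal R) (f : R) :
    Nonempty (((R ⧸ J) ⧸ Ideal.span {Ideal.Quotient.mk J f}) ≃+* (R ⧸ (J ⊔ Ideal.span {f}))) := by
  have h : Ideal.span {Ideal.Quotient.mk J f} = (Ideal.span {f}).map (Ideal.Quotient.mk J) := by
    rw [Ideal.map_span, Set.image_singleton]
  exact ⟨(Ideal.quotEquivOfEq h).trans (DoubleQuot.quotQuotEquivQuotSup J (Ideal.span {f}))⟩

/-- a condition for regularity on the quotient -/
theorem isSMulRegular_mk {J : Ideal R} {f : R} (hf : ∀ x, f * x ∈ J → x ∈ J) :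
    IsSMulRegular (R ⧸ J) (Ideal.Quotient.mk J f) := by
  intro x y hxy
  obtain ⟨x, rfl⟩ := Ideal.Quotient.mk_surjective x
  obtain ⟨y, rfl⟩ := Ideal.Quotient.mk_surjective y
  simp only [smul_eq_mul, ← map_mul] at hxy
  rw [Ideal.Quotient.eq] at hxy ⊢
  exact hf _ (by rwa [mul_sub])

theorem cm_quot_sup [IsLocalRing R] [IsNoetherianRing R] {J : Ideal R}
    (hJ : LocCoh.IsCohenMacaulayLocalRing (R ⧸ J)) {f : R} (hfm : f ∈ maximalIdeal R)
    (hf : ∀ x, f * x ∈ J → x ∈ J) :
    LocCoh.IsCohenMacaulayLocalRing (R ⧸ (J ⊔ Ideal.span {f})) := by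
  obtain ⟨e⟩ := nonempty_quot_equiv J f
  have hloc : IsLocalHom (Ideal.Quotient.mk J) := IsLocalHom.of_surjective _ Ideal.Quotient.mk_surjective
  have h1 : Ideal.Quotient.mk J f ∈ maximalIdeal (R ⧸ J) := by
    rw [mem_maximalIdeal, mem_nonunits_iff, isUnit_map_iff]
    exact hfm
  have := Groth.Agent.Sga3C.QSliceAlg.isCM_quotient_span h1 (isSMulRegular_mk hf)
  exact Groth.Agent.CalgB.CMPoly.isCohenMacaulayLocalRing_of_ringEquiv e

theorem dim_quot_sup [IsLocalRing R] [IsNoetherianRing R] {J : Ideal R}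
    [hJ : IsLocalRing (R ⧸ J)] {f : R} (hfm : f ∈ maximalIdeal R)
    (hf : ∀ x, f * x ∈ J → x ∈ J) :
    ringKrullDim (R ⧸ (J ⊔ Ideal.span {f})) + 1 = ringKrullDim (R ⧸ J) := by
  obtain ⟨e⟩ := nonempty_quot_equiv J f
  have hloc : IsLocalHom (Ideal.Quotient.mk J) := IsLocalHom.of_surjective _ Ideal.Quotient.mk_surjective
  have h1 : Ideal.Quotient.mk J f ∈ maximalIdeal (R ⧸ J) := by
    rw [mem_maximalIdeal, mem_nonunits_iff, isUnit_map_iff]
    exact hfm
  rw [← ringKrullDim_eq_of_ringEquiv e]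
  exact ringKrullDim_quotient_span_singleton_succ_eq_ringKrullDim (isSMulRegular_mk hf) h1

/-- regularity on `A/J` passes to localizations -/
theorem reg_localization (M : Submonoid R) {S : Type u} [CommRing S] [Algebra R S]
    [IsLocalization M S] {J : Ideal R} {f : R} (hf : ∀ x, f * x ∈ J → x ∈ J) (x : S)
    (hx : algebraMap R S f * x ∈ J.map (algebraMap R S)) : x ∈ J.map (algebraMap R S) := by
  obtain ⟨⟨a, s⟩, ha⟩ := IsLocalization.surj M x
  simp only at ha
  have h1 : algebraMap R S (f * a) ∈ J.map (algebraMap R S) := by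
    rw [map_mul, ← ha, ← mul_assoc]
    exact Ideal.mul_mem_right _ _ hx
  rw [IsLocalization.algebraMap_mem_map_algebraMap_iff M] at h1
  obtain ⟨t, ht, h2⟩ := h1
  have h3 : t * a ∈ J := hf _ (by rwa [mul_left_comm])
  have h4 : algebraMap R S t * (x * algebraMap R S s) ∈ J.map (algebraMap R S) := by
    rw [ha, ← map_mul]; exact Ideal.mem_map_of_mem _ h3
  have h5 := (Ideal.unit_mul_mem_iff_mem _ (IsLocalization.map_units S ⟨t, ht⟩)).1 h4
  rw [mul_comm] at h5
  exact (Ideal.unit_mul_mem_iff_mem _ (IsLocalization.map_units S s)).1 h5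

theorem map_sup_span {S : Type v} [CommRing S] (φ : R →+* S) (J : Ideal R) (f : R) :
    (J ⊔ Ideal.span {f}).map φ = J.map φ ⊔ Ideal.span {φ f} := by
  rw [Ideal.map_sup, Ideal.map_span, Set.image_singleton]

/-- the quotient of a Cohen-Macaulay quotient ring by a regular element -/
theorem isCohenMacaulayRing_quot_sup [IsNoetherianRing R] {J : Ideal R}
    (hJ : LocCoh.IsCohenMacaulayRing (R ⧸ J)) {f : R} (hf : ∀ x, f * x ∈ J → x ∈ J) :
    LocCoh.IsCohenMacaulayRing (R ⧸ (J ⊔ Ideal.span {f})) := by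
  rw [isCohenMacaulayRing_quot_iff]
  intro m _ hm
  rw [map_sup_span]
  have hfm : f ∈ m := hm (Ideal.mem_sup_right (Ideal.mem_span_singleton_self f))
  exact cm_quot_sup (isCohenMacaulayLocalRing_quot_map m (le_sup_left.trans hm) hJ)
    ((IsLocalization.AtPrime.to_map_mem_maximal_iff _ m f).2 hfm)
    (reg_localization m.primeCompl hf)

theorem dim_quot_map_sup [IsNoetherianRing R] {J : Ideal R} {f : R}
    (hf : ∀ x, f * x ∈ J → x ∈ J) (m : Ideal R) [m.IsPrime] (hm : J ⊔ Ideal.span {f} ≤ m) :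
    ringKrullDim (Localization.AtPrime m ⧸
      (J ⊔ Ideal.span {f}).map (algebraMap R (Localization.AtPrime m))) + 1 =
    ringKrullDim (Localization.AtPrime m ⧸ J.map (algebraMap R (Localization.AtPrime m))) := by
  rw [map_sup_span]
  have hfm : f ∈ m := hm (Ideal.mem_sup_right (Ideal.mem_span_singleton_self f))
  have := isLocalRing_quot_map m (le_sup_left.trans hm)
  exact dim_quot_sup ((IsLocalization.AtPrime.to_map_mem_maximal_iff _ m f).2 hfm)
    (reg_localization m.primeCompl hf)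

end K976.LocQuot
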