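import Groth.Agent.Liaison.K976.Link
import Groth.Agent.Liaison.K976.LocQuot

/-!
# Basic double links
-/

set_option autoImplicit false
universe u v

namespace K976.Double

open GrSyz MvPolynomial K976.Unmixed K976.Link

section Gen

variable {R : Type u} [CommRing R]

/-- `J : f = J` in elementary terms -/
theorem mem_of_mul_mem_of_colon {J : Ideal R} {f : R} (hJf : J.colon {f} = J) {x : R}
    (h : f * x ∈ J) : x ∈ J := by
  rw [← hJf, Submodule.mem_colon_singleton, smul_eq_mul, mul_comm]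
  exact h

theorem notMem_of_mem_ass [IsNoetherianRing R] {J : Ideal R} {f : R}
    (hf : ∀ x, f * x ∈ J → x ∈ J) {p : Ideal R} (hp : p ∈ associatedPrimes R (R ⧸ J)) : f ∉ p := by
  obtain ⟨hpp, x, hx⟩ := (mem_ass_quot_iff J p).1 hp
  intro hfp
  have h1 := hf x ((hx f).1 hfp)
  exact hpp.ne_top ((Ideal.eq_top_iff_one p).2 ((hx 1).2 (by simpa using h1)))

/-- `fx ∈ J + fI` if and only if `x ∈ I`. -/
theorem mul_mem_iff {J I : Ideal R} (hJI : J ≤ I) {f : R} (hf : ∀ x, f * x ∈ J → x ∈ J) (x : R) :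
    f * x ∈ J ⊔ Ideal.span {f} * I ↔ x ∈ I := by
  constructor
  · intro h
    obtain ⟨a, ha, b, hb, hab⟩ := Submodule.mem_sup.1 h
    obtain ⟨c, hc, rfl⟩ := Ideal.mem_span_singleton_mul.1 hb
    have h1 : f * (x - c) ∈ J := by
      have : f * (x - c) = a := by rw [mul_sub, ← hab]; ring
      rwa [this]
    have := I.add_mem (hJI (hf _ h1)) hc
    simpa using this
  · intro hx
    exact Ideal.mem_sup_right (Ideal.mul_mem_mul (Ideal.mem_span_singleton_self f) hx)

theorem ass_subset [IsNoetherianRing R] {J I : Ideal R} (hJI : J ≤ I) {f : R}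
    (hf : ∀ x, f * x ∈ J → x ∈ J) :
    associatedPrimes R (R ⧸ I) ⊆ associatedPrimes R (R ⧸ (J ⊔ Ideal.span {f} * I)) := by
  intro p hp
  obtain ⟨hpp, x, hx⟩ := (mem_ass_quot_iff I p).1 hp
  refine (mem_ass_quot_iff _ p).2 ⟨hpp, f * x, fun a => ?_⟩
  rw [hx, ← mul_mem_iff hJI hf]
  rw [mul_left_comm]

/-- multiplication by `f` from `R/I` to `R/(J + fI)` -/
noncomputable def mulMap (J I : Ideal R) (f : R) :
    (R ⧸ I) →ₗ[R] (R ⧸ (J ⊔ Ideal.span {f} * I)) :=
  Submodule.mapQ I (J ⊔ Ideal.span {f} * I) (LinearMap.mulLeft R f) (fun _ hx =>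
    Ideal.mem_sup_right (Ideal.mul_mem_mul (Ideal.mem_span_singleton_self f) hx))

theorem mulMap_mk (J I : Ideal R) (f x : R) :
    mulMap J I f (Ideal.Quotient.mk I x) = Ideal.Quotient.mk _ (f * x) := rfl

/-- the projection from `R/(J + fI)` to `R/(J + f)` -/
noncomputable def projMap (J I : Ideal R) (f : R) :
    (R ⧸ (J ⊔ Ideal.span {f} * I)) →ₗ[R] (R ⧸ (J ⊔ Ideal.span {f})) :=
  Submodule.factor (sup_le_sup_left Ideal.mul_le_left J)

theorem projMap_mk (J I : Ideal R) (f x : R) :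
    projMap J I f (Ideal.Quotient.mk _ x) = Ideal.Quotient.mk _ x := rfl

theorem mulMap_injective {J I : Ideal R} (hJI : J ≤ I) {f : R} (hf : ∀ x, f * x ∈ J → x ∈ J) :
    Function.Injective (mulMap J I f) := by
  rw [injective_iff_map_eq_zero]
  intro x hx
  obtain ⟨x, rfl⟩ := Ideal.Quotient.mk_surjective x
  rw [mulMap_mk, Ideal.Quotient.eq_zero_iff_mem, mul_mem_iff hJI hf] at hx
  exact Ideal.Quotient.eq_zero_iff_mem.2 hx

theorem projMap_surjective (J I : Ideal R) (f : R) : Function.Surjective (projMap J I f) := by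
  intro x
  obtain ⟨x, rfl⟩ := Ideal.Quotient.mk_surjective x
  exact ⟨Ideal.Quotient.mk _ x, rfl⟩

theorem exact_mul_proj (J I : Ideal R) (f : R) :
    Function.Exact (mulMap J I f) (projMap J I f) := by
  intro x
  obtain ⟨x, rfl⟩ := Ideal.Quotient.mk_surjective x
  rw [projMap_mk, Ideal.Quotient.eq_zero_iff_mem]
  constructor
  · intro h
    obtain ⟨a, ha, b, hb, rfl⟩ := Submodule.mem_sup.1 h
    obtain ⟨c, rfl⟩ := Ideal.mem_span_singleton.1 hb
    refine ⟨Ideal.Quotient.mk I c, ?_⟩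
    rw [mulMap_mk, Ideal.Quotient.eq, ← neg_mem_iff]
    simpa using Ideal.mem_sup_left ha
  · rintro ⟨y, hy⟩
    obtain ⟨y, rfl⟩ := Ideal.Quotient.mk_surjective y
    rw [mulMap_mk, Ideal.Quotient.eq] at hy
    have h1 : f * y - x ∈ J ⊔ Ideal.span {f} := sup_le_sup_left Ideal.mul_le_left J hy
    have h2 : f * y ∈ J ⊔ Ideal.span {f} :=
      Ideal.mem_sup_right (Ideal.mul_mem_right _ _ (Ideal.mem_span_singleton_self f))
    have := Ideal.sub_mem _ h2 h1
    simpa using this

theorem ass_subset_union [IsNoetherianRing R] {J I : Ideal R} (hJI : J ≤ I) {f : R}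
    (hf : ∀ x, f * x ∈ J → x ∈ J) :
    associatedPrimes R (R ⧸ (J ⊔ Ideal.span {f} * I)) ⊆
      associatedPrimes R (R ⧸ I) ∪ associatedPrimes R (R ⧸ (J ⊔ Ideal.span {f})) :=
  associatedPrimes.subset_union_of_exact (mulMap_injective hJI hf) (exact_mul_proj J I f)

/-- the height of the double link -/
theorem height_double [IsNoetherianRing R] {J I : Ideal R} {h : ℕ∞} (hJI : J ≤ I)
    (hJh : h ≤ J.height) (hIh : I.height = h + 1) {f : R} (hf : ∀ x, f * x ∈ J → x ∈ J) :
    (J ⊔ Ideal.span {f} * I).height = h + 1 := by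
  apply le_antisymm
  · rw [← hIh]
    exact Ideal.height_mono (sup_le hJI Ideal.mul_le_right)
  · rw [Ideal.height_eq_inf_minimalPrimes (I := J ⊔ Ideal.span {f} * I)]
    refine le_iInf₂ fun p hp => ?_
    have hpp : p.IsPrime := hp.1.1
    by_cases hIp : I ≤ p
    · rw [← hIh]; exact Ideal.height_mono hIp
    · have hfp : f ∈ p := by
        rcases hpp.mul_le.1 (le_sup_right.trans hp.1.2) with h1 | h1
        · exact h1 (Ideal.mem_span_singleton_self f)
        · exact absurd h1 hIp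
      obtain ⟨q, hq, hqp⟩ := Ideal.exists_minimalPrimes_le (le_sup_left.trans hp.1.2 : J ≤ p)
      have hqq : q.IsPrime := hq.1.1
      have hlt : q < p := lt_of_le_of_ne hqp fun h1 =>
        notMem_of_mem_ass hf (mem_ass_of_mem_minimalPrimes hq) (h1 ▸ hfp)
      calc h + 1 ≤ q.height + 1 := by gcongr; exact hJh.trans (Ideal.height_mono hq.1.2)
        _ ≤ p.height := by
          exact Order.add_one_le_of_lt (Ideal.height_strict_mono_of_isPrime hlt)

end Gen

section Hom

variable {K : Type u} [Field K] {n : ℕ}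

open K976.LocQuot

theorem isHomogeneous_sup_span {J : Ideal (MvPolynomial (Fin n) K)}
    (hJ : J.IsHomogeneous (stdGr K (Fin n))) {f : MvPolynomial (Fin n) K} {d : ℤ}
    (hf : f ∈ stdGr K (Fin n) d) : (J ⊔ Ideal.span {f}).IsHomogeneous (stdGr K (Fin n)) := by
  refine hJ.sup (Ideal.homogeneous_span _ _ ?_)
  rintro x rfl
  exact ⟨d, hf⟩

theorem height_sup_span {J : Ideal (MvPolynomial (Fin n) K)}
    (hJ : J.IsHomogeneous (stdGr K (Fin n)))
    (hCM : LocCoh.IsCohenMacaulayRing (MvPolynomial (Fin n) K ⧸ J))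
    {f : MvPolynomial (Fin n) K} {d : ℤ}
    (hf : f ∈ stdGr K (Fin n) d) (hreg : ∀ x, f * x ∈ J → x ∈ J)
    (hne : J ⊔ Ideal.span {f} ≠ ⊤) : (J ⊔ Ideal.span {f}).height = J.height + 1 := by
  have h1 := isHomogeneous_sup_span hJ hf
  have h2 := le_irrel h1 hne
  have h3 := height_add_dim hJ hCM (irrel (stdGr K (Fin n))).toIdeal (le_sup_left.trans h2)
  have h4 := height_add_dim h1 (isCohenMacaulayRing_quot_sup hCM hreg)
    (irrel (stdGr K (Fin n))).toIdeal h2
  rw [← dim_quot_map_sup hreg _ h2, ← h4, add_comm _ 1, ← add_assoc] at h3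
  have := isLocalRing_quot_map _ h2
  exact (add_right_cancel_dim ringKrullDim_ne_bot ringKrullDim_ne_top (by exact_mod_cast h3)).symm

theorem unmixed_iff {J I : Ideal (MvPolynomial (Fin n) K)} {h : ℕ∞}
    (hJ : J.IsHomogeneous (stdGr K (Fin n)))
    (hCM : LocCoh.IsCohenMacaulayRing (MvPolynomial (Fin n) K ⧸ J))
    (hJI : J ≤ I) (hJh : J.height = h)
    {f : MvPolynomial (Fin n) K} {d : ℤ}
    (hf : f ∈ stdGr K (Fin n) d) (hreg : ∀ x, f * x ∈ J → x ∈ J) :
    (∀ p ∈ associatedPrimes (MvPolynomial (Fin n) K) (MvPolynomial (Fin n) K ⧸ I),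
      p.height = h + 1) ↔
    ∀ p ∈ associatedPrimes (MvPolynomial (Fin n) K)
      (MvPolynomial (Fin n) K ⧸ (J ⊔ Ideal.span {f} * I)), p.height = h + 1 := by
  constructor
  · intro H p hp
    rcases ass_subset_union hJI hreg hp with h1 | h1
    · exact H p h1
    · rw [height_of_mem_ass (isHomogeneous_sup_span hJ hf) (isCohenMacaulayRing_quot_sup hCM hreg)
        h1, height_sup_span hJ hCM hf hreg, hJh]
      intro htop
      exact h1.isPrime.ne_top (top_le_iff.1 (htop ▸ le_of_mem_ass h1))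
  · intro H p hp
    exact H p (ass_subset hJI hreg hp)

end Hom

end K976.Double
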