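import Groth.Agent.Liaison.K976.GorLoc

/-!
# Ideals in Gorenstein local rings: induction on the dimension
-/

set_option autoImplicit false
universe u v

namespace K976.GorInd

open K976.Unmixed K976.LocQuot K976.GorLoc IsLocalRing RingTheory.Sequence

theorem dim_pred {a : WithBot ℕ∞} {b : WithBot ℕ∞} {d : ℕ} (h1 : a + 1 = b)
    (h2 : b = ((d + 1 : ℕ) : WithBot ℕ∞)) : a = (d : WithBot ℕ∞) := by
  apply Groth.Agent.CalgB.CM2.WithBot_add_one_cancel
  rw [h1, h2]
  push_cast
  rfl

theorem cm_bot {A : Type u} [CommRing A] (hA : LocCoh.IsCohenMacaulayLocalRing A) :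
    LocCoh.IsCohenMacaulayLocalRing (A ⧸ (⊥ : Ideal A)) :=
  Groth.Agent.CalgB.CMPoly.isCohenMacaulayLocalRing_of_ringEquiv (RingEquiv.quotientBot A).symm

theorem dim_bot (A : Type u) [CommRing A] : ringKrullDim (A ⧸ (⊥ : Ideal A)) = ringKrullDim A :=
  ringKrullDim_eq_of_ringEquiv (RingEquiv.quotientBot A)

theorem one_le_dim {a : WithBot ℕ∞} {d : ℕ} (h : a = ((d + 1 : ℕ) : WithBot ℕ∞)) : 1 ≤ a := by
  rw [h]
  exact_mod_cast Nat.le_add_left 1 d

/-- a common regular element -/
theorem exists_common {A : Type u} [CommRing A] [IsLocalRing A] [IsNoetherianRing A]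
    (hA : LocCoh.IsCohenMacaulayLocalRing A) (hd : 1 ≤ ringKrullDim A) (s : Finset (Ideal A))
    (hs : ∀ I ∈ s, ∀ P ∈ associatedPrimes A (A ⧸ I), ¬ maximalIdeal A ≤ P) :
    ∃ x ∈ maximalIdeal A, IsSMulRegular A x ∧ ∀ I ∈ s, ∀ y, x * y ∈ I → y ∈ I := by
  classical
  obtain ⟨x, hx, hreg⟩ := exists_reg (maximalIdeal A) (insert ⊥ s) (by
    intro I hI
    rcases Finset.mem_insert.1 hI with rfl | hI
    · exact not_le_of_dim (cm_bot hA) (by rwa [dim_bot])
    · exact hs I hI)
  exact ⟨x, hx, reg_bot (hreg ⊥ (Finset.mem_insert_self _ _)),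
    fun I hI => hreg I (Finset.mem_insert_of_mem hI)⟩

theorem dim_quot_span {A : Type u} [CommRing A] [IsLocalRing A] [IsNoetherianRing A] {x : A}
    (hx : x ∈ maximalIdeal A) (hreg : IsSMulRegular A x) {d : ℕ}
    (hd : ringKrullDim A = ((d + 1 : ℕ) : WithBot ℕ∞)) :
    ringKrullDim (A ⧸ Ideal.span {x}) = d :=
  dim_pred (ringKrullDim_quotient_span_singleton_succ_eq_ringKrullDim hreg hx) hd

/-- `A` Gorenstein, `A/f` Cohen-Macaulay of the same dimension: `A/(0 : f)` is Gorenstein. -/
theorem gor_colon (d : ℕ) : ∀ (A : Type u) [CommRing A] [LocCoh.IsGorensteinLocalRing A] (f : A)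
    (J : Ideal A), f ≠ 0 → ringKrullDim A = d →
    LocCoh.IsCohenMacaulayLocalRing (A ⧸ Ideal.span {f}) →
    ringKrullDim (A ⧸ Ideal.span {f}) = d → (∀ y, y ∈ J ↔ y * f = 0) →
    LocCoh.IsGorensteinLocalRing (A ⧸ J) := by
  induction d with
  | zero =>
    intro A _ _ f J hf hd _ _ hJ
    exact gor_colon_zero A (by simpa using hd) f hf J hJ
  | succ d ih =>
    intro A _ hG f J hf hd hCM hdf hJ
    have hA : LocCoh.IsCohenMacaulayLocalRing A := Groth.Agent.S0341.result A
    have hne : J ≠ ⊤ := fun h1 => hf (by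
      have := (hJ 1).1 (by rw [h1]; trivial)
      simpa using this)
    obtain ⟨x, hx, hreg, hregs⟩ := exists_common hA (one_le_dim hd) {Ideal.span {f}} (by
      intro I hI
      rw [Finset.mem_singleton] at hI
      subst hI
      exact not_le_of_dim hCM (one_le_dim hdf))
    have hregf := hregs _ (Finset.mem_singleton_self _)
    have hregJ : ∀ y, x * y ∈ J → y ∈ J := by
      intro y hy
      rw [hJ] at hy ⊢
      apply hreg
      simp only [smul_eq_mul, mul_zero]
      rw [← mul_assoc]; exact hy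
    apply gor_up hx hne hregJ
    have hG' := gor_down hx hreg hG
    have hmap : Ideal.span {Ideal.Quotient.mk (Ideal.span {x}) f} =
        (Ideal.span {f}).map (Ideal.Quotient.mk (Ideal.span {x})) := by
      rw [Ideal.map_span, Set.image_singleton]
    have := hCM.toIsLocalRing
    apply ih (A ⧸ Ideal.span {x}) (Ideal.Quotient.mk _ f) _ _ (dim_quot_span hx hreg hd)
    · rw [hmap]; exact cm_down hx hregf hCM
    · rw [hmap]; exact dim_pred (dim_down hx hregf) hdf
    · intro y
      obtain ⟨y, rfl⟩ := Ideal.Quotient.mk_surjective y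
      rw [mk_mem_map_iff, ← map_mul, Ideal.Quotient.eq_zero_iff_mem]
      constructor
      · intro h
        obtain ⟨a, ha, b, hb, rfl⟩ := Submodule.mem_sup.1 h
        rw [add_mul, (hJ a).1 ha, zero_add]
        exact Ideal.mul_mem_right _ _ hb
      · intro h
        obtain ⟨z, hz⟩ := Ideal.mem_span_singleton.1 h
        have hz' : z ∈ Ideal.span {f} :=
          hregf z (hz ▸ Ideal.mul_mem_left _ y (Ideal.mem_span_singleton_self f))
        obtain ⟨w, rfl⟩ := Ideal.mem_span_singleton'.1 hz'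
        have : y - x * w ∈ J := by
          rw [hJ, sub_mul, hz]; ring
        have h2 : y = (y - x * w) + w * x := by ring
        rw [h2]
        exact Ideal.add_mem _ (Ideal.mem_sup_left this)
          (Ideal.mem_sup_right (Ideal.mem_span_singleton'.2 ⟨w, rfl⟩))
    · intro h
      rw [Ideal.Quotient.eq_zero_iff_mem] at h
      obtain ⟨g, hg⟩ := Ideal.mem_span_singleton.1 h
      have hg' : g ∈ Ideal.span {f} := hregf g (hg ▸ Ideal.mem_span_singleton_self f)
      obtain ⟨w, rfl⟩ := Ideal.mem_span_singleton'.1 hg'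
      have h1 : (1 - x * w) * f = 0 := by
        have : f = x * (w * f) := hg
        linear_combination this
      have hu : IsUnit (1 - x * w) := by
        rw [← not_not (a := IsUnit (1 - x * w)), ← mem_nonunits_iff, ← mem_maximalIdeal]
        intro hm
        exact (maximalIdeal.isMaximal A).ne_top ((Ideal.eq_top_iff_one _).2 (by
          have := Ideal.add_mem _ hm (Ideal.mul_mem_right w _ hx)
          rwa [sub_add_cancel] at this))
      exact hf (hu.mul_right_eq_zero.1 h1)

/-- a regular sequence in `A` for the Cohen-Macaulay ring `A/I` -/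
theorem exists_seq {A : Type u} [CommRing A] [IsLocalRing A] {I : Ideal A}
    (hI : LocCoh.IsCohenMacaulayLocalRing (A ⧸ I)) :
    ∃ rs : List A, (∀ r ∈ rs, r ∈ maximalIdeal A) ∧ IsWeaklyRegular (A ⧸ I) rs ∧
      (rs.length : WithBot ℕ∞) = ringKrullDim (A ⧸ I) := by
  obtain ⟨rs, hm, hreg, hlen⟩ :=
    Groth.Agent.CalgB.CMPoly.exists_seq_of_isCohenMacaulayLocalRing (A ⧸ I)
  have hs : Function.Surjective (List.map (Ideal.Quotient.mk I)) :=
    List.map_surjective_iff.2 Ideal.Quotient.mk_surjective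
  obtain ⟨rs, rfl⟩ := hs rs
  refine ⟨rs, ?_, ?_, ?_⟩
  · intro r hr
    have h1 := hm _ (List.mem_map_of_mem hr)
    rw [mem_maximalIdeal, mem_nonunits_iff] at h1 ⊢
    exact fun hu => h1 (hu.map _)
  · exact (isWeaklyRegular_map_algebraMap_iff (A ⧸ I) (A ⧸ I) rs).1 hreg
  · rwa [List.length_map] at hlen

/-- `A` Gorenstein, `A/I` Cohen-Macaulay of the same dimension: `A/(0 : I)` is Cohen-Macaulay. -/
theorem cm_ann (d : ℕ) : ∀ (A : Type u) [CommRing A] [LocCoh.IsGorensteinLocalRing A]
    (I J : Ideal A), ringKrullDim A = d → LocCoh.IsCohenMacaulayLocalRing (A ⧸ I) →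
    ringKrullDim (A ⧸ I) = d → J ≠ ⊤ → (∀ y, y ∈ J ↔ ∀ a ∈ I, y * a = 0) →
    LocCoh.IsCohenMacaulayLocalRing (A ⧸ J) := by
  induction d with
  | zero =>
    intro A _ _ I J hd _ _ hne _
    have := isLocalRing_quot (le_maximalIdeal hne)
    apply Groth.Agent.CalgB.CMPoly.isCohenMacaulayLocalRing_of_seq ([] : List _) (by simp)
      (RingTheory.Sequence.IsWeaklyRegular.nil _ _)
    simpa [hd] using ringKrullDim_quotient_le J
  | succ d ih =>
    intro A _ hG I J hd hCM hdI hne hJ
    have hA : LocCoh.IsCohenMacaulayLocalRing A := Groth.Agent.S0341.result A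
    obtain ⟨x, hx, hreg, hregs⟩ := exists_common hA (one_le_dim hd) {I} (by
      intro I' hI
      rw [Finset.mem_singleton] at hI
      subst hI
      exact not_le_of_dim hCM (one_le_dim hdI))
    have hregI := hregs _ (Finset.mem_singleton_self _)
    have hregJ : ∀ y, x * y ∈ J → y ∈ J := by
      intro y hy
      rw [hJ] at hy ⊢
      intro a ha
      apply hreg
      simp only [smul_eq_mul, mul_zero]
      rw [← mul_assoc]; exact hy a ha
    apply cm_up hx hne hregJ
    have hG' := gor_down hx hreg hG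
    have := hCM.toIsLocalRing
    apply ih (A ⧸ Ideal.span {x}) (I.map (Ideal.Quotient.mk (Ideal.span {x}))) _
      (dim_quot_span hx hreg hd) (cm_down hx hregI hCM) (dim_pred (dim_down hx hregI) hdI)
      (map_ne_top hne hx)
    intro y
    obtain ⟨y, rfl⟩ := Ideal.Quotient.mk_surjective y
    rw [mk_mem_map_iff]
    constructor
    · intro h a ha
      obtain ⟨a, rfl⟩ := Ideal.Quotient.mk_surjective a
      rw [← map_mul, Ideal.Quotient.eq_zero_iff_mem]
      rw [mk_mem_map_iff] at ha
      obtain ⟨b, hb, c, hc, rfl⟩ := Submodule.mem_sup.1 h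
      obtain ⟨b', hb', c', hc', rfl⟩ := Submodule.mem_sup.1 ha
      rw [mul_add, add_mul, (hJ b).1 hb b' hb', zero_add]
      exact Ideal.add_mem _ (Ideal.mul_mem_right _ _ hc) (Ideal.mul_mem_left _ _ hc')
    · intro h
      obtain ⟨rs, hm, hrs, hlen⟩ := exists_seq hCM
      obtain ⟨z, hz, hyz⟩ := Groth.Agent.CalgB.LiftMCM.exists_lift_gorenstein I rs
        (by rw [hlen, hdI, hd]) hm hrs x hreg y (fun a ha => by
          rw [← Ideal.Quotient.eq_zero_iff_mem, map_mul]
          exact h _ (Ideal.mem_map_of_mem _ ha))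
      have h2 : y = z + (y - z) := by ring
      rw [h2]
      exact Ideal.add_mem _ (Ideal.mem_sup_left ((hJ z).2 hz)) (Ideal.mem_sup_right hyz)

end K976.GorInd
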