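import Groth.Agent.Liaison.K976.LocQuot
import Groth.Agent.Pi1A.GorLift703
import Groth.Agent.CalgB.LiftMCM
import Groth.Agent.CalgB.GorFlat

/-!
# Ideals in Gorenstein local rings
-/

set_option autoImplicit false
universe u v

namespace K976.GorLoc

open K976.Unmixed K976.LocQuot IsLocalRing

/-! ## Regular elements -/

section Reg

variable {A : Type u} [CommRing A]

/-- prime avoidance: an element of `b` regular on finitely many `A/I` -/
theorem exists_reg [IsNoetherianRing A] (b : Ideal A) (s : Finset (Ideal A))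
    (h : ∀ I ∈ s, ∀ P ∈ associatedPrimes A (A ⧸ I), ¬ b ≤ P) :
    ∃ x ∈ b, ∀ I ∈ s, ∀ y, x * y ∈ I → y ∈ I := by
  classical
  have hfin : (⋃ I ∈ s, associatedPrimes A (A ⧸ I)).Finite :=
    s.finite_toSet.biUnion fun I _ => associatedPrimes.finite A (A ⧸ I)
  by_contra hcon
  push Not at hcon
  have hsub : (b : Set A) ⊆ ⋃ P ∈ (hfin.toFinset : Set (Ideal A)), (P : Set A) := by
    intro x hx
    obtain ⟨I, hI, y, hxy, hy⟩ := hcon x hx
    have : ∃ P ∈ associatedPrimes A (A ⧸ I), x ∈ P := by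
      by_contra hc
      push Not at hc
      exact hy (mem_of_mul_mem hc hxy)
    obtain ⟨P, hP, hxP⟩ := this
    refine Set.mem_biUnion (x := P) ?_ hxP
    rw [Set.Finite.coe_toFinset]
    exact Set.mem_biUnion hI hP
  obtain ⟨P, hP, hle⟩ := (Ideal.subset_union_prime (f := id) (b) (b) (fun P hP _ _ => by
    rw [Set.Finite.mem_toFinset] at hP
    obtain ⟨I, hI, hP⟩ := Set.mem_iUnion₂.1 hP
    exact hP.isPrime)).1 hsub
  rw [Set.Finite.mem_toFinset] at hP
  obtain ⟨I, hI, hP⟩ := Set.mem_iUnion₂.1 hP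
  exact h I hI P hP hle

theorem bot_ass_iff (P : Ideal A) :
    P ∈ associatedPrimes A (A ⧸ (⊥ : Ideal A)) ↔ P ∈ associatedPrimes A A := by
  rw [LinearEquiv.AssociatedPrimes.eq (Submodule.quotEquivOfEqBot (⊥ : Ideal A) rfl)]

theorem reg_bot {x : A} (h : ∀ y, x * y ∈ (⊥ : Ideal A) → y ∈ (⊥ : Ideal A)) :
    IsSMulRegular A x := by
  intro a b hab
  have : x * (a - b) ∈ (⊥ : Ideal A) := by
    simp only [smul_eq_mul] at hab
    rw [mul_sub, hab, sub_self]
    exact Ideal.zero_mem _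
  exact sub_eq_zero.1 (h _ this)

variable [IsLocalRing A] [IsNoetherianRing A]

/-- a Cohen-Macaulay quotient of positive dimension does not have the maximal ideal as
associated prime -/
theorem not_le_of_dim {I : Ideal A} (hCM : LocCoh.IsCohenMacaulayLocalRing (A ⧸ I))
    (hd : 1 ≤ ringKrullDim (A ⧸ I)) :
    ∀ P ∈ associatedPrimes A (A ⧸ I), ¬ maximalIdeal A ≤ P := by
  intro P hP hle
  have h1 := dim_quot_of_mem_ass hCM hP
  have hPp : P.IsPrime := hP.isPrime
  have h2 : P = maximalIdeal A := le_antisymm (le_maximalIdeal hPp.ne_top) hle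
  subst h2
  rw [← h1] at hd
  rw [ringKrullDim_eq_zero_of_isField
    ((Ideal.Quotient.maximal_ideal_iff_isField_quotient (maximalIdeal A)).1 inferInstance)] at hd
  exact absurd hd (by decide)

end Reg

/-! ## Passing to the quotient by a regular element -/

section Quot

variable {A : Type u} [CommRing A]

theorem nonempty_comm (J : Ideal A) (x : A) :
    Nonempty (((A ⧸ Ideal.span {x}) ⧸ J.map (Ideal.Quotient.mk (Ideal.span {x}))) ≃+*
      ((A ⧸ J) ⧸ Ideal.span {Ideal.Quotient.mk J x})) := by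
  have h : Ideal.span {Ideal.Quotient.mk J x} = (Ideal.span {x}).map (Ideal.Quotient.mk J) := by
    rw [Ideal.map_span, Set.image_singleton]
  exact ⟨(DoubleQuot.quotQuotEquivComm (Ideal.span {x}) J).trans (Ideal.quotEquivOfEq h.symm)⟩

variable [IsLocalRing A] [IsNoetherianRing A]

omit [IsNoetherianRing A] in
theorem mk_mem {J : Ideal A} [IsLocalRing (A ⧸ J)] {x : A} (hx : x ∈ maximalIdeal A) :
    Ideal.Quotient.mk J x ∈ maximalIdeal (A ⧸ J) := by
  have hloc : IsLocalHom (Ideal.Quotient.mk J) :=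
    IsLocalHom.of_surjective _ Ideal.Quotient.mk_surjective
  rw [mem_maximalIdeal, mem_nonunits_iff, isUnit_map_iff]
  exact hx

omit [IsNoetherianRing A] in
theorem cm_down {J : Ideal A} {x : A} (hx : x ∈ maximalIdeal A)
    (hreg : ∀ y, x * y ∈ J → y ∈ J) (hJ : LocCoh.IsCohenMacaulayLocalRing (A ⧸ J)) :
    LocCoh.IsCohenMacaulayLocalRing
      ((A ⧸ Ideal.span {x}) ⧸ J.map (Ideal.Quotient.mk (Ideal.span {x}))) := by
  obtain ⟨e⟩ := nonempty_comm J x
  have := Groth.Agent.Sga3C.QSliceAlg.isCM_quotient_span (mk_mem hx) (isSMulRegular_mk hreg)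
  exact Groth.Agent.CalgB.CMPoly.isCohenMacaulayLocalRing_of_ringEquiv e.symm

theorem dim_down {J : Ideal A} [IsLocalRing (A ⧸ J)] {x : A} (hx : x ∈ maximalIdeal A)
    (hreg : ∀ y, x * y ∈ J → y ∈ J) :
    ringKrullDim ((A ⧸ Ideal.span {x}) ⧸ J.map (Ideal.Quotient.mk (Ideal.span {x}))) + 1 =
      ringKrullDim (A ⧸ J) := by
  obtain ⟨e⟩ := nonempty_comm J x
  rw [ringKrullDim_eq_of_ringEquiv e]
  exact ringKrullDim_quotient_span_singleton_succ_eq_ringKrullDim (isSMulRegular_mk hreg)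
    (mk_mem hx)

/-- a local ring is Cohen-Macaulay if its quotient by a regular element is -/
theorem cm_of_quotient {B : Type u} [CommRing B] [IsLocalRing B] [IsNoetherianRing B] {x : B}
    (hx : x ∈ maximalIdeal B) (hreg : IsSMulRegular B x)
    (h : LocCoh.IsCohenMacaulayLocalRing (B ⧸ Ideal.span {x})) :
    LocCoh.IsCohenMacaulayLocalRing B := by
  have e : QuotSMulTop x B ≃ₗ[B] (B ⧸ Ideal.span {x}) :=
    Submodule.quotEquivOfEq _ _ (by
      ext y
      rw [Submodule.mem_smul_pointwise_iff_exists, Ideal.mem_span_singleton']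
      constructor
      · rintro ⟨z, -, rfl⟩
        exact ⟨z, by rw [smul_eq_mul, mul_comm]⟩
      · rintro ⟨z, rfl⟩
        exact ⟨z, trivial, by rw [smul_eq_mul, mul_comm]⟩)
  have h2 : LocCoh.IsCohenMacaulayModule B (B ⧸ Ideal.span {x}) := by
    unfold LocCoh.IsCohenMacaulayModule
    rw [Groth.Agent.Sga3C.QSliceAlg.depth_of_surjective (R := B) (S := B ⧸ Ideal.span {x})
      Ideal.Quotient.mk_surjective, ← h.supportDim_eq_depth,
      Module.supportDim_self_eq_ringKrullDim,
      Module.supportDim_quotient_eq_ringKrullDim, ringKrullDim_quotient]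
  have h3 := (Groth.Agent.CalgB.CM2.cm_quotSMulTop_iff hx hreg).1
    ((Groth.Agent.CalgB.CM2.cm_congr e).2 h2)
  exact { supportDim_eq_depth := h3 }

theorem cm_up {J : Ideal A} {x : A} (hx : x ∈ maximalIdeal A) (hne : J ≠ ⊤)
    (hreg : ∀ y, x * y ∈ J → y ∈ J)
    (h : LocCoh.IsCohenMacaulayLocalRing
      ((A ⧸ Ideal.span {x}) ⧸ J.map (Ideal.Quotient.mk (Ideal.span {x})))) :
    LocCoh.IsCohenMacaulayLocalRing (A ⧸ J) := by
  obtain ⟨e⟩ := nonempty_comm J x
  have := isLocalRing_quot (le_maximalIdeal hne)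
  exact cm_of_quotient (mk_mem hx) (isSMulRegular_mk hreg)
    (Groth.Agent.CalgB.CMPoly.isCohenMacaulayLocalRing_of_ringEquiv e)

theorem gor_up {J : Ideal A} {x : A} (hx : x ∈ maximalIdeal A) (hne : J ≠ ⊤)
    (hreg : ∀ y, x * y ∈ J → y ∈ J)
    (h : LocCoh.IsGorensteinLocalRing
      ((A ⧸ Ideal.span {x}) ⧸ J.map (Ideal.Quotient.mk (Ideal.span {x})))) :
    LocCoh.IsGorensteinLocalRing (A ⧸ J) := by
  obtain ⟨e⟩ := nonempty_comm J x
  have := isLocalRing_quot (le_maximalIdeal hne)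
  exact (Groth.Agent.S0343.result (A ⧸ J) _ (mk_mem hx) (isSMulRegular_mk hreg)).2
    (Groth.Agent.LoccohB.GorBasic.isGorensteinLocalRing_of_ringEquiv e h)

theorem gor_down {x : A} (hx : x ∈ maximalIdeal A) (hreg : IsSMulRegular A x)
    (hA : LocCoh.IsGorensteinLocalRing A) :
    LocCoh.IsGorensteinLocalRing (A ⧸ Ideal.span {x}) :=
  (Groth.Agent.S0343.result A x hx hreg).1 hA

omit [IsNoetherianRing A] in
theorem map_ne_top {J : Ideal A} (hne : J ≠ ⊤) {x : A} (hx : x ∈ maximalIdeal A) :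
    J.map (Ideal.Quotient.mk (Ideal.span {x})) ≠ ⊤ := by
  intro h
  have hloc := isLocalRing_quot ((Ideal.span_singleton_le_iff_mem _).2 hx)
  have h1 : J.map (Ideal.Quotient.mk (Ideal.span {x})) ≤ maximalIdeal (A ⧸ Ideal.span {x}) := by
    rw [Ideal.map_le_iff_le_comap]
    intro y hy
    exact mk_mem (le_maximalIdeal hne hy)
  rw [h, top_le_iff] at h1
  exact (maximalIdeal.isMaximal _).ne_top h1

omit [IsLocalRing A] [IsNoetherianRing A] in
theorem mk_mem_map_iff {J : Ideal A} {x y : A} :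
    Ideal.Quotient.mk (Ideal.span {x}) y ∈ J.map (Ideal.Quotient.mk (Ideal.span {x})) ↔
      y ∈ J ⊔ Ideal.span {x} := by
  rw [← Ideal.mem_comap, Ideal.comap_map_of_surjective _ Ideal.Quotient.mk_surjective,
    ← RingHom.ker_eq_comap_bot, Ideal.mk_ker]

end Quot

/-! ## Dimension zero -/

section Zero

variable (A : Type u) [CommRing A] [LocCoh.IsGorensteinLocalRing A]

theorem not_reg_of_dim_zero {A : Type u} [CommRing A] [IsLocalRing A] [IsNoetherianRing A]
    (h : ringKrullDim A = 0) : ∀ x ∈ maximalIdeal A, ¬ IsSMulRegular A x := by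
  intro x hx hreg
  have h1 := ringKrullDim_quotient_span_singleton_succ_eq_ringKrullDim hreg hx
  rw [h] at h1
  have h2 := isLocalRing_quot ((Ideal.span_singleton_le_iff_mem _).2 hx)
  have h3 : (0 : WithBot ℕ∞) ≤ ringKrullDim (A ⧸ Ideal.span {x}) := ringKrullDim_nonneg_of_nontrivial
  have h4 : (1 : WithBot ℕ∞) ≤ ringKrullDim (A ⧸ Ideal.span {x}) + 1 := by
    calc (1 : WithBot ℕ∞) = 0 + 1 := by rw [zero_add]
      _ ≤ _ := by gcongr
  rw [h1] at h4
  exact absurd h4 (by decide)

theorem allMul (h : ringKrullDim A = 0) (I : Ideal A) :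
    Groth.Agent.Pi1A.GorLift703.AllMul A I :=
  Groth.Agent.Pi1A.GorLift703.allMul_of_depth_zero A (not_reg_of_dim_zero h) I

/-- If `r x ∈ I` implies `r s = 0`, there is `c` killing `I` with `c x = s`. -/
theorem exists_mul (h : ringKrullDim A = 0) (I : Ideal A) (x s : A)
    (hs : ∀ r, r * x ∈ I → r * s = 0) : ∃ c, (∀ a ∈ I, c * a = 0) ∧ c * x = s := by
  -- the map `I + (x) → A`
  let K : Ideal A := I ⊔ Ideal.span {x}
  have hK : ∀ z : K, ∃ r : A, z.1 - r * x ∈ I := by
    rintro ⟨z, hz⟩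
    obtain ⟨a, ha, b, hb, hab⟩ := Submodule.mem_sup.1 hz
    obtain ⟨r, rfl⟩ := Ideal.mem_span_singleton'.1 hb
    exact ⟨r, by simpa [← hab] using ha⟩
  choose r hr using hK
  have hwd : ∀ (z : K) (t : A), z.1 - t * x ∈ I → r z * s = t * s := by
    intro z t ht
    have : (r z - t) * x ∈ I := by
      have := I.sub_mem ht (hr z)
      have h2 : (r z - t) * x = z.1 - t * x - (z.1 - r z * x) := by ring
      rwa [h2]
    have := hs _ this
    rw [sub_mul, sub_eq_zero] at this
    exact this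
  let ψ : K →ₗ[A] A :=
    { toFun := fun z => r z * s
      map_add' := fun z w => by
        rw [← add_mul]
        apply hwd
        have := I.add_mem (hr z) (hr w)
        have h2 : (z + w : K).1 - (r z + r w) * x = z.1 - r z * x + (w.1 - r w * x) := by
          rw [Submodule.coe_add]; ring
        rwa [h2]
      map_smul' := fun a z => by
        simp only [RingHom.id_apply, smul_eq_mul]
        rw [← mul_assoc]
        apply hwd
        have := I.mul_mem_left a (hr z)
        have h2 : (a • z : K).1 - a * r z * x = a * (z.1 - r z * x) := by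
          rw [Submodule.coe_smul, smul_eq_mul]; ring
        rwa [h2] }
  obtain ⟨c, hc⟩ := allMul A h K ψ
  refine ⟨c, fun a ha => ?_, ?_⟩
  · have h1 := hc ⟨a, Ideal.mem_sup_left ha⟩
    rw [← h1]
    have := hwd ⟨a, Ideal.mem_sup_left ha⟩ 0 (by simpa using ha)
    exact this.trans (zero_mul s)
  · have h1 := hc ⟨x, Ideal.mem_sup_right (Ideal.mem_span_singleton_self x)⟩
    rw [← h1]
    have := hwd ⟨x, Ideal.mem_sup_right (Ideal.mem_span_singleton_self x)⟩ 1 (by simp)
    exact this.trans (one_mul s)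

theorem exists_socle (h : ringKrullDim A = 0) :
    ∃ s : A, s ≠ 0 ∧ (∀ a ∈ maximalIdeal A, a * s = 0) ∧
      ∀ t, (∀ a ∈ maximalIdeal A, a * t = 0) → ∃ c, t = c * s := by
  have h1 : ∃ s : A, s ≠ 0 ∧ (∀ a ∈ maximalIdeal A, a * s = 0) := by
    by_contra hcon
    push Not at hcon
    obtain ⟨x, hx, hreg⟩ := exists_reg (maximalIdeal A) {(⊥ : Ideal A)} (by
      intro I hI P hP hle
      rw [Finset.mem_singleton] at hI
      subst hI
      obtain ⟨hPp, y, hy⟩ := (mem_ass_quot_iff _ _).1 hP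
      have hy0 : y ≠ 0 := by
        rintro rfl
        exact hPp.ne_top ((Ideal.eq_top_iff_one _).2 ((hy 1).2 (by simp)))
      obtain ⟨a, ha, ha0⟩ := hcon y hy0
      exact ha0 ((hy a).1 (hle ha)))
    exact not_reg_of_dim_zero h x hx (reg_bot (hreg _ (Finset.mem_singleton_self _)))
  obtain ⟨s, hs0, hs⟩ := h1
  refine ⟨s, hs0, hs, fun t ht => ?_⟩
  obtain ⟨c, -, hc⟩ := exists_mul A h ⊥ s t (fun r hr => by
    apply ht
    by_contra hru
    rw [mem_maximalIdeal, mem_nonunits_iff, not_not] at hru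
    exact hs0 (hru.mul_right_eq_zero.1 (by simpa using hr)))
  exact ⟨c, hc.symm⟩

/-- In an Artinian Gorenstein local ring the double annihilator of `I` is `I`. -/
theorem ann_ann (h : ringKrullDim A = 0) (I : Ideal A) (x : A)
    (hx : ∀ y, (∀ a ∈ I, y * a = 0) → y * x = 0) : x ∈ I := by
  obtain ⟨s, hs0, hs, -⟩ := exists_socle A h
  by_contra hxI
  obtain ⟨c, hc, hcx⟩ := exists_mul A h I x s (fun r hr => by
    apply hs
    by_contra hru
    rw [mem_maximalIdeal, mem_nonunits_iff, not_not] at hru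
    exact hxI ((Ideal.unit_mul_mem_iff_mem _ hru).1 hr))
  exact hs0 (hcx ▸ hx c hc)

theorem isArtinianRing_of_dim_zero {A : Type u} [CommRing A] [IsNoetherianRing A]
    (h : ringKrullDim A ≤ 0) : IsArtinianRing A := by
  have : Ring.KrullDimLE 0 A := by
    rw [Ring.krullDimLE_iff]
    exact_mod_cast h
  exact IsNoetherianRing.isArtinianRing_of_krullDimLE_zero

/-- dimension zero: the quotient by the annihilator of an element is Gorenstein -/
theorem gor_colon_zero (h : ringKrullDim A = 0) (f : A) (hf : f ≠ 0) (J : Ideal A)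
    (hJ : ∀ y, y ∈ J ↔ y * f = 0) : LocCoh.IsGorensteinLocalRing (A ⧸ J) := by
  have hne : J ≠ ⊤ := fun h1 => hf (by
    have := (hJ 1).1 (by rw [h1]; trivial)
    simpa using this)
  have hloc := isLocalRing_quot (le_maximalIdeal hne)
  obtain ⟨s, hs0, hs, hsoc⟩ := exists_socle A h
  have hart : IsArtinianRing A := isArtinianRing_of_dim_zero h.le
  have hart' : IsArtinianRing (A ⧸ J) := inferInstance
  -- `s = f s₁`
  obtain ⟨s₁, hs₁⟩ : ∃ s₁, s = s₁ * f := by
    have : s ∈ Ideal.span {f} := ann_ann A h _ _ (fun y hy => by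
      have hyf : y * f = 0 := hy f (Ideal.mem_span_singleton_self f)
      have hyu : y ∈ maximalIdeal A := by
        rw [mem_maximalIdeal, mem_nonunits_iff]
        intro hu
        exact hf (hu.mul_right_eq_zero.1 hyf)
      exact hs y hyu)
    obtain ⟨s₁, hs₁⟩ := Ideal.mem_span_singleton'.1 this
    exact ⟨s₁, hs₁.symm⟩
  have hlocHom : IsLocalHom (Ideal.Quotient.mk J) :=
    IsLocalHom.of_surjective _ Ideal.Quotient.mk_surjective
  apply Groth.Agent.CalgB.GorFlat.isGorenstein_of_socle (Ideal.Quotient.mk J s₁)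
  · intro a ha
    obtain ⟨a, rfl⟩ := Ideal.Quotient.mk_surjective a
    rw [← map_mul, Ideal.Quotient.eq_zero_iff_mem, hJ, mul_assoc, ← hs₁]
    apply hs
    rw [mem_maximalIdeal, mem_nonunits_iff] at ha ⊢
    exact fun hu => ha (hu.map _)
  · intro t ht
    obtain ⟨t, rfl⟩ := Ideal.Quotient.mk_surjective t
    obtain ⟨c, hc⟩ := hsoc (t * f) (fun a ha => by
      have := ht (Ideal.Quotient.mk J a) (mk_mem ha)
      rw [← map_mul, Ideal.Quotient.eq_zero_iff_mem, hJ] at this
      rw [← mul_assoc]; exact this)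
    refine ⟨Ideal.Quotient.mk J c, ?_⟩
    rw [← map_mul, Ideal.Quotient.eq, hJ, sub_mul, hc, hs₁, mul_assoc, sub_self]

end Zero

end K976.GorLoc
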