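import Groth.Agent.Liaison.K976.GorInd

/-!
# Sums of geometrically linked ideals in Gorenstein local rings
-/

set_option autoImplicit false
universe u v

namespace K976.GorSup

open K976.Unmixed K976.LocQuot K976.GorLoc K976.GorInd IsLocalRing RingTheory.Sequence

section One

variable {A : Type u} [CommRing A]

/-- If `u I ⊆ t A` with `t = α + β` regular, `α ∈ I`, `β ∈ J`, `I ∩ J = 0`, every map `I → A` a
multiplication, then `u ∈ (α)`. -/
theorem mem_span_of_mul {I J : Ideal A} (hIJ : I ⊓ J = ⊥) {α β t : A} (hα : α ∈ I) (hβ : β ∈ J)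
    (ht : t = α + β) (hreg : IsSMulRegular A t)
    (hregJ : ∀ y, t * y ∈ J → y ∈ J) (hI : Groth.Agent.Pi1A.GorLift703.AllMul A I)
    {u : A} (hu : u ∈ I) (huI : ∀ i ∈ I, u * i ∈ Ideal.span {t}) : ∃ s, u = α * s := by
  have hdisj : ∀ x, x ∈ I → x ∈ J → x = 0 := fun x h1 h2 => by
    have : x ∈ I ⊓ J := ⟨h1, h2⟩
    rwa [hIJ] at this
  have hcan : ∀ x y, t * x = t * y → x = y := fun x y h => hreg h
  choose g hg using fun i : I => Ideal.mem_span_singleton.1 (huI i i.2)
  let ψ : I →ₗ[A] A :=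
    { toFun := g
      map_add' := fun a b => by
        apply hcan
        rw [← hg, mul_add, ← hg, ← hg, Submodule.coe_add, mul_add]
      map_smul' := fun a b => by
        apply hcan
        rw [← hg, RingHom.id_apply, smul_eq_mul, mul_left_comm, ← hg, Submodule.coe_smul,
          smul_eq_mul, mul_left_comm] }
  obtain ⟨s, hs⟩ := hI ψ
  refine ⟨s, ?_⟩
  -- `(u - t s) I = 0`
  have h1 : ∀ i ∈ I, (u - t * s) * i = 0 := by
    intro i hi
    have h2 : u * i = t * (s * i) := by
      have h3 := hg ⟨i, hi⟩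
      have h4 : g ⟨i, hi⟩ = s * i := hs ⟨i, hi⟩
      rw [h4] at h3
      exact h3
    rw [sub_mul, h2]; ring
  have h2 : u - t * s ∈ J := by
    apply hregJ
    have h3 : t * (u - t * s) = (u - t * s) * β := by
      have := h1 α hα
      linear_combination (u - t * s) * ht + this
    rw [h3]
    exact Ideal.mul_mem_left _ _ hβ
  have h3 : u - α * s = β * s + (u - t * s) := by rw [ht]; ring
  have h4 : u - α * s = 0 := by
    apply hdisj
    · exact I.sub_mem hu (Ideal.mul_mem_right _ _ hα)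
    · rw [h3]
      exact J.add_mem (Ideal.mul_mem_right _ _ hβ) h2
  exact sub_eq_zero.1 h4

/-- dimension one -/
theorem gor_sup_one {A : Type u} [CommRing A] [hG : LocCoh.IsGorensteinLocalRing A]
    {I J : Ideal A} (hne : I ⊔ J ≠ ⊤) (hIJ : I ⊓ J = ⊥)
    (hd : ringKrullDim A = ((0 + 1 : ℕ) : WithBot ℕ∞)) {α β t : A} (hα : α ∈ I) (hβ : β ∈ J)
    (ht : t = α + β) (hreg : IsSMulRegular A t) (hregI : ∀ y, t * y ∈ I → y ∈ I)
    (hregJ : ∀ y, t * y ∈ J → y ∈ J) : LocCoh.IsGorensteinLocalRing (A ⧸ (I ⊔ J)) := by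
  have hdisj : ∀ x, x ∈ I → x ∈ J → x = 0 := fun x h1 h2 => by
    have : x ∈ I ⊓ J := ⟨h1, h2⟩
    rwa [hIJ] at this
  have hIne : I ≠ ⊤ := fun h => hne (top_le_iff.1 (h ▸ le_sup_left))
  have hJne : J ≠ ⊤ := fun h => hne (top_le_iff.1 (h ▸ le_sup_right))
  have htm : t ∈ maximalIdeal A := by
    rw [ht]
    exact Ideal.add_mem _ (le_maximalIdeal hIne hα) (le_maximalIdeal hJne hβ)
  have hdimle : Ring.KrullDimLE 1 A := by
    rw [Ring.krullDimLE_iff, hd]
  have hAI := Groth.Agent.Pi1A.GorLift703.allMul_of_dim_le_one A I t htm hregI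
  have hAJ := Groth.Agent.Pi1A.GorLift703.allMul_of_dim_le_one A J t htm hregJ
  have hG' := gor_down htm hreg hG
  have hd' : ringKrullDim (A ⧸ Ideal.span {t}) = 0 := by
    have := dim_quot_span htm hreg hd
    simpa using this
  set π := Ideal.Quotient.mk (Ideal.span {t}) with hπ
  have hts : t ∈ I ⊔ J := by
    rw [ht]; exact Ideal.add_mem _ (Ideal.mem_sup_left hα) (Ideal.mem_sup_right hβ)
  have hle : Ideal.span {t} ≤ I ⊔ J := (Ideal.span_singleton_le_iff_mem _).2 hts
  have hz0 : π α ≠ 0 := by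
    intro h
    rw [hπ, Ideal.Quotient.eq_zero_iff_mem] at h
    obtain ⟨g, hg⟩ := Ideal.mem_span_singleton.1 h
    have hgI : g ∈ I := hregI g (hg ▸ hα)
    have hβg : β * g = 0 := hdisj _ (Ideal.mul_mem_left _ _ hgI) (Ideal.mul_mem_right _ _ hβ)
    have h1 : α * (1 - g) = 0 := by
      have : α = (α + β) * g := by rw [← ht]; exact hg
      linear_combination this + hβg
    have hu : IsUnit (1 - g) := by
      rw [← not_not (a := IsUnit (1 - g)), ← mem_nonunits_iff, ← mem_maximalIdeal]
      intro hm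
      exact (maximalIdeal.isMaximal A).ne_top ((Ideal.eq_top_iff_one _).2 (by
        have := Ideal.add_mem _ hm (le_maximalIdeal hIne hgI)
        rwa [sub_add_cancel] at this))
    have hα0 : α = 0 := hu.mul_left_eq_zero.1 h1
    have h2 : t * 1 ∈ J := by
      rw [ht, hα0, zero_add, mul_one]; exact hβ
    exact hJne ((Ideal.eq_top_iff_one _).2 (hregJ 1 h2))
  -- `α (I + J) ⊆ (t)`
  have hαle : ∀ w ∈ I ⊔ J, w * α ∈ Ideal.span {t} := by
    intro w hw
    obtain ⟨i, hi, j, hj, rfl⟩ := Submodule.mem_sup.1 hw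
    have h1 : j * α = 0 := hdisj _ (Ideal.mul_mem_left _ _ hα) (Ideal.mul_mem_right _ _ hj)
    have h2 : i * β = 0 := hdisj _ (Ideal.mul_mem_right _ _ hi) (Ideal.mul_mem_left _ _ hβ)
    refine Ideal.mem_span_singleton'.2 ⟨i, ?_⟩
    rw [ht]
    linear_combination h2 - h1
  -- the colon ideal
  have hcolon : ∀ y, (∀ w ∈ I ⊔ J, y * w ∈ Ideal.span {t}) →
      ∃ c d, y = c * t + d * α := by
    intro y hy
    obtain ⟨u, hu⟩ := Ideal.mem_span_singleton.1 (hy α (Ideal.mem_sup_left hα))
    obtain ⟨v, hv⟩ := Ideal.mem_span_singleton.1 (hy β (Ideal.mem_sup_right hβ))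
    have huv : y = u + v := by
      apply hreg
      simp only [smul_eq_mul]
      linear_combination hu + hv + y * ht
    have huI : u ∈ I := hregI u (hu ▸ Ideal.mul_mem_left _ _ hα)
    have hvJ : v ∈ J := hregJ v (hv ▸ Ideal.mul_mem_left _ _ hβ)
    obtain ⟨s, hs⟩ := mem_span_of_mul hIJ hα hβ ht hreg hregJ hAI huI (fun i hi => by
      have h1 : v * i = 0 := hdisj _ (Ideal.mul_mem_left _ _ hi) (Ideal.mul_mem_right _ _ hvJ)
      have h2 : u * i = y * i := by rw [huv, add_mul, h1, add_zero]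
      rw [h2]
      exact hy i (Ideal.mem_sup_left hi))
    obtain ⟨s', hs'⟩ := mem_span_of_mul (I := J) (J := I) (by rwa [inf_comm]) hβ hα
      (by rw [ht, add_comm]) hreg hregI hAJ hvJ (fun i hi => by
      have h1 : u * i = 0 := hdisj _ (Ideal.mul_mem_right _ _ huI) (Ideal.mul_mem_left _ _ hi)
      have h2 : v * i = y * i := by rw [huv, add_mul, h1, zero_add]
      rw [h2]
      exact hy i (Ideal.mem_sup_right hi))
    refine ⟨s', s - s', ?_⟩
    rw [huv, hs, hs', ht]; ring
  -- the ideal `(I + J)/t` is the annihilator of `α`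
  have hK : ∀ y, y ∈ (I ⊔ J).map π ↔ y * π α = 0 := by
    intro y
    obtain ⟨y, rfl⟩ := Ideal.Quotient.mk_surjective y
    constructor
    · intro h
      rw [hπ, mk_mem_map_iff, sup_eq_left.2 hle] at h
      rw [hπ, ← map_mul, Ideal.Quotient.eq_zero_iff_mem]
      exact hαle y h
    · intro h
      apply ann_ann (A ⧸ Ideal.span {t}) hd'
      intro w hw
      obtain ⟨w, rfl⟩ := Ideal.Quotient.mk_surjective w
      obtain ⟨c, d, hcd⟩ := hcolon w (fun a ha => by
        rw [← Ideal.Quotient.eq_zero_iff_mem, map_mul]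
        exact hw _ (Ideal.mem_map_of_mem _ ha))
      have ht0 : Ideal.Quotient.mk (Ideal.span {t}) t = 0 :=
        Ideal.Quotient.eq_zero_iff_mem.2 (Ideal.mem_span_singleton_self t)
      rw [hcd, map_add, map_mul, map_mul, ht0, mul_zero, zero_add, mul_assoc,
        mul_comm (Ideal.Quotient.mk (Ideal.span {t}) α)]
      have h' : Ideal.Quotient.mk (Ideal.span {t}) y * Ideal.Quotient.mk (Ideal.span {t}) α = 0 := h
      rw [h', mul_zero]
  have h1 := gor_colon_zero (A ⧸ Ideal.span {t}) hd' (π α) hz0 ((I ⊔ J).map π) hK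
  exact Groth.Agent.LoccohB.GorBasic.isGorensteinLocalRing_of_ringEquiv
    (DoubleQuot.quotQuotEquivQuotOfLE hle) h1

end One

theorem dim_quot_le {A : Type u} [CommRing A] {I P : Ideal A} (h : I ≤ P) :
    ringKrullDim (A ⧸ P) ≤ ringKrullDim (A ⧸ I) :=
  ringKrullDim_le_of_surjective (Ideal.Quotient.factor h) (Ideal.Quotient.factor_surjective h)

/-- The sum of geometrically linked ideals. -/
theorem gor_sup (d : ℕ) : ∀ (A : Type u) [CommRing A] [LocCoh.IsGorensteinLocalRing A]
    (I J : Ideal A), I ⊔ J ≠ ⊤ → I ⊓ J = ⊥ → ringKrullDim A = ((d + 1 : ℕ) : WithBot ℕ∞) →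
    LocCoh.IsCohenMacaulayLocalRing (A ⧸ I) → LocCoh.IsCohenMacaulayLocalRing (A ⧸ J) →
    ringKrullDim (A ⧸ I) = ((d + 1 : ℕ) : WithBot ℕ∞) →
    ringKrullDim (A ⧸ J) = ((d + 1 : ℕ) : WithBot ℕ∞) →
    ringKrullDim (A ⧸ (I ⊔ J)) ≤ d →
    LocCoh.IsGorensteinLocalRing (A ⧸ (I ⊔ J)) ∧ ringKrullDim (A ⧸ (I ⊔ J)) = d := by
  induction d with
  | zero =>
    intro A _ hG I J hne hIJ hd hI hJ hdI hdJ hdIJ
    have hA : LocCoh.IsCohenMacaulayLocalRing A := Groth.Agent.S0341.result A
    have hlt : ∀ P : Ideal A, ringKrullDim (A ⧸ P) = ((0 + 1 : ℕ) : WithBot ℕ∞) → ¬ (I ⊔ J ≤ P) := by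
      intro P hP hle
      have := (dim_quot_le hle).trans hdIJ
      rw [hP] at this
      exact absurd this (by decide)
    obtain ⟨t, ht, hregs⟩ := exists_reg (I ⊔ J) {⊥, I, J} (by
      intro K hK P hP
      simp only [Finset.mem_insert, Finset.mem_singleton] at hK
      rcases hK with rfl | rfl | rfl
      · exact hlt P (by rw [dim_quot_of_mem_ass (cm_bot hA) hP, dim_bot, hd])
      · exact hlt P (by rw [dim_quot_of_mem_ass hI hP, hdI])
      · exact hlt P (by rw [dim_quot_of_mem_ass hJ hP, hdJ]))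
    have hreg := reg_bot (hregs ⊥ (by simp))
    have hregI := hregs I (by simp)
    have hregJ := hregs J (by simp)
    obtain ⟨α, hα, β, hβ, hαβ⟩ := Submodule.mem_sup.1 ht
    have h1 := gor_sup_one hne hIJ hd hα hβ hαβ.symm hreg hregI hregJ
    refine ⟨h1, le_antisymm hdIJ ?_⟩
    have := h1.toIsLocalRing
    simpa using ringKrullDim_nonneg_of_nontrivial (R := A ⧸ (I ⊔ J))
  | succ d ih =>
    intro A _ hG I J hne hIJ hd hI hJ hdI hdJ hdIJ
    have hA : LocCoh.IsCohenMacaulayLocalRing A := Groth.Agent.S0341.result A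
    have hdisj : ∀ x, x ∈ I → x ∈ J → x = 0 := fun x h1 h2 => by
      have : x ∈ I ⊓ J := ⟨h1, h2⟩
      rwa [hIJ] at this
    -- depth of `A/(I+J)` is positive
    have hpos : ∀ P ∈ associatedPrimes A (A ⧸ (I ⊔ J)), ¬ maximalIdeal A ≤ P := by
      obtain ⟨x, hx, hreg, hregs⟩ := exists_common hA (one_le_dim hd) {I, J} (by
        intro K hK
        simp only [Finset.mem_insert, Finset.mem_singleton] at hK
        rcases hK with rfl | rfl
        · exact not_le_of_dim hI (one_le_dim hdI)
        · exact not_le_of_dim hJ (one_le_dim hdJ))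
      have hregI := hregs I (by simp)
      have hregJ := hregs J (by simp)
      have hdx := dim_quot_span hx hreg hd
      have hGx := gor_down hx hreg hG
      have hAx : LocCoh.IsCohenMacaulayLocalRing (A ⧸ Ideal.span {x}) :=
        Groth.Agent.S0341.result _
      obtain ⟨x', hx', hregx'⟩ := exists_reg (maximalIdeal A) {Ideal.span {x}} (by
        intro K hK
        rw [Finset.mem_singleton] at hK
        subst hK
        exact not_le_of_dim hAx (one_le_dim hdx))
      have hregx := hregx' _ (Finset.mem_singleton_self _)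
      intro P hP hle
      obtain ⟨hPp, y, hy⟩ := (mem_ass_quot_iff _ _).1 hP
      apply hPp.ne_top
      rw [Ideal.eq_top_iff_one, hy, one_mul]
      obtain ⟨a, ha, b, hb, hab⟩ := Submodule.mem_sup.1 ((hy x).1 (hle hx))
      obtain ⟨a', ha', b', hb', hab'⟩ := Submodule.mem_sup.1 ((hy x').1 (hle hx'))
      have h1 : x' * a - x * a' = x * b' - x' * b := by
        linear_combination x' * hab - x * hab'
      have h2 : x' * a - x * a' = 0 := by
        apply hdisj
        · exact I.sub_mem (I.mul_mem_left _ ha) (I.mul_mem_left _ ha')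
        · rw [h1]
          exact J.sub_mem (J.mul_mem_left _ hb') (J.mul_mem_left _ hb)
      have h3 : x * b' - x' * b = 0 := by rw [← h1, h2]
      have h4 : a ∈ Ideal.span {x} := hregx a (by
        rw [sub_eq_zero.1 h2]
        exact Ideal.mul_mem_right _ _ (Ideal.mem_span_singleton_self x))
      have h5 : b ∈ Ideal.span {x} := hregx b (by
        rw [← sub_eq_zero.1 h3]
        exact Ideal.mul_mem_right _ _ (Ideal.mem_span_singleton_self x))
      obtain ⟨a₁, rfl⟩ := Ideal.mem_span_singleton.1 h4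
      obtain ⟨b₁, rfl⟩ := Ideal.mem_span_singleton.1 h5
      have h6 : y = a₁ + b₁ := by
        apply hreg
        simp only [smul_eq_mul]
        linear_combination -hab
      rw [h6]
      exact Ideal.add_mem _ (Ideal.mem_sup_left (hregI a₁ ha)) (Ideal.mem_sup_right (hregJ b₁ hb))
    obtain ⟨x, hx, hreg, hregs⟩ := exists_common hA (one_le_dim hd) {I, J, I ⊔ J} (by
        intro K hK
        simp only [Finset.mem_insert, Finset.mem_singleton] at hK
        rcases hK with rfl | rfl | rfl
        · exact not_le_of_dim hI (one_le_dim hdI)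
        · exact not_le_of_dim hJ (one_le_dim hdJ)
        · exact hpos)
    have hregI := hregs I (by simp)
    have hregJ := hregs J (by simp)
    have hregIJ := hregs (I ⊔ J) (by simp)
    have hG' := gor_down hx hreg hG
    have hlI := hI.toIsLocalRing
    have hlJ := hJ.toIsLocalRing
    have hlIJ := isLocalRing_quot (le_maximalIdeal hne)
    have hdd := dim_down hx hregIJ
    have hle : ringKrullDim ((A ⧸ Ideal.span {x}) ⧸
        (I ⊔ J).map (Ideal.Quotient.mk (Ideal.span {x}))) ≤ d := by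
      rw [← hdd] at hdIJ
      exact Groth.Agent.Pi1A.GorLift703.le_of_add_le_add_nat (k := 1) (by exact_mod_cast hdIJ)
    have hmap : I.map (Ideal.Quotient.mk (Ideal.span {x})) ⊔
        J.map (Ideal.Quotient.mk (Ideal.span {x})) =
        (I ⊔ J).map (Ideal.Quotient.mk (Ideal.span {x})) := (Ideal.map_sup _ _ _).symm
    obtain ⟨h1, h2⟩ := ih (A ⧸ Ideal.span {x}) (I.map (Ideal.Quotient.mk (Ideal.span {x})))
      (J.map (Ideal.Quotient.mk (Ideal.span {x})))
      (by rw [hmap]; exact map_ne_top hne hx)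
      (by
        rw [eq_bot_iff]
        rintro y ⟨hyI, hyJ⟩
        obtain ⟨y, rfl⟩ := Ideal.Quotient.mk_surjective y
        rw [SetLike.mem_coe, mk_mem_map_iff] at hyI hyJ
        obtain ⟨a, ha, b, hb, hab⟩ := Submodule.mem_sup.1 hyI
        obtain ⟨a', ha', b', hb', hab'⟩ := Submodule.mem_sup.1 hyJ
        obtain ⟨u, rfl⟩ := Ideal.mem_span_singleton.1 hb
        obtain ⟨v, rfl⟩ := Ideal.mem_span_singleton.1 hb'
        have h3 : x * (v - u) = a - a' := by linear_combination hab' - hab
        have h4 : v - u ∈ I ⊔ J := hregIJ _ (by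
          rw [h3]
          exact Ideal.sub_mem _ (Ideal.mem_sup_left ha) (Ideal.mem_sup_right ha'))
        obtain ⟨i, hi, j, hj, hij⟩ := Submodule.mem_sup.1 h4
        have h5 : x * i - a = -a' - x * j := by
          have : x * (i + j) = a - a' := by rw [hij, h3]
          linear_combination this
        have h6 : x * i - a = 0 := by
          apply hdisj
          · exact I.sub_mem (I.mul_mem_left _ hi) ha
          · rw [h5]
            exact J.sub_mem (J.neg_mem ha') (J.mul_mem_left _ hj)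
        rw [Submodule.mem_bot, Ideal.Quotient.eq_zero_iff_mem, ← hab, ← sub_eq_zero.1 h6]
        exact Ideal.add_mem _ (Ideal.mul_mem_right _ _ (Ideal.mem_span_singleton_self x))
          (Ideal.mul_mem_right _ _ (Ideal.mem_span_singleton_self x)))
      (dim_quot_span hx hreg hd) (cm_down hx hregI hI) (cm_down hx hregJ hJ)
      (dim_pred (dim_down hx hregI) hdI) (dim_pred (dim_down hx hregJ) hdJ)
      (by rw [hmap]; exact hle)
    rw [hmap] at h1 h2
    refine ⟨gor_up hx hne hregIJ h1, ?_⟩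
    rw [← hdd, h2]
    push_cast
    rfl

end K976.GorSup
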