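import Mathlib.Analysis.Polynomial.Basic
import Mathlib.Algebra.Polynomial.Roots

/-!
# Growth of integer-valued functions
-/

set_option autoImplicit false

namespace K976.Growth

/-- Growth of order less than `e`: eventually zero for `e = 0`, `O(j^(e-1))` otherwise. -/
def Gr : ℕ → (ℤ → ℤ) → Prop
  | 0, f => ∃ N : ℕ, ∀ j : ℕ, N ≤ j → f j = 0
  | e + 1, f => ∃ C : ℕ, ∀ j : ℕ, |f j| ≤ C * (j + 1) ^ e

theorem Gr.zero (e : ℕ) : Gr e (fun _ => 0) := by
  cases e with
  | zero => exact ⟨0, fun _ _ => rfl⟩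
  | succ e => exact ⟨0, fun j => by simp⟩

theorem Gr.add {e : ℕ} {f g : ℤ → ℤ} (hf : Gr e f) (hg : Gr e g) : Gr e (fun j => f j + g j) := by
  cases e with
  | zero =>
    obtain ⟨N, hN⟩ := hf
    obtain ⟨M, hM⟩ := hg
    refine ⟨max N M, fun j hj => ?_⟩
    simp [hN j ((le_max_left _ _).trans hj), hM j ((le_max_right _ _).trans hj)]
  | succ e =>
    obtain ⟨C, hC⟩ := hf
    obtain ⟨D, hD⟩ := hg
    refine ⟨C + D, fun j => ?_⟩
    calc |f j + g j| ≤ |f j| + |g j| := abs_add_le _ _
      _ ≤ C * (j + 1) ^ e + D * (j + 1) ^ e := add_le_add (hC j) (hD j)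
      _ = _ := by push_cast; ring

theorem Gr.neg {e : ℕ} {f : ℤ → ℤ} (hf : Gr e f) : Gr e (fun j => - f j) := by
  cases e with
  | zero =>
    obtain ⟨N, hN⟩ := hf
    exact ⟨N, fun j hj => by simp [hN j hj]⟩
  | succ e =>
    obtain ⟨C, hC⟩ := hf
    exact ⟨C, fun j => by rw [abs_neg]; exact hC j⟩

theorem Gr.sub {e : ℕ} {f g : ℤ → ℤ} (hf : Gr e f) (hg : Gr e g) : Gr e (fun j => f j - g j) := by
  simpa only [sub_eq_add_neg] using hf.add hg.neg

theorem Gr.congr {e : ℕ} {f g : ℤ → ℤ} (hf : Gr e f) (h : ∀ j : ℤ, g j = f j) : Gr e g := by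
  have : g = f := funext h
  rwa [this]

theorem Gr.mono_succ {e : ℕ} {f : ℤ → ℤ} (hf : Gr e f) : Gr (e + 1) f := by
  cases e with
  | zero =>
    obtain ⟨N, hN⟩ := hf
    refine ⟨∑ i ∈ Finset.range N, (f i).natAbs, fun j => ?_⟩
    rw [pow_zero, mul_one]
    by_cases hj : N ≤ j
    · rw [hN j hj, abs_zero]; positivity
    · push Not at hj
      have : (f j).natAbs ≤ ∑ i ∈ Finset.range N, (f i).natAbs :=
        Finset.single_le_sum (f := fun i : ℕ => (f i).natAbs) (fun _ _ => Nat.zero_le _)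
          (Finset.mem_range.2 hj)
      have h2 : |f j| = ((f j).natAbs : ℤ) := Int.abs_eq_natAbs _
      rw [h2]
      exact_mod_cast this
  | succ e =>
    obtain ⟨C, hC⟩ := hf
    refine ⟨C, fun j => (hC j).trans ?_⟩
    have : ((j : ℤ) + 1) ^ e ≤ (j + 1) ^ (e + 1) :=
      pow_le_pow_right₀ (by linarith [Int.natCast_nonneg j]) (Nat.le_succ e)
    exact mul_le_mul_of_nonneg_left this (Int.natCast_nonneg C)

theorem Gr.mono {e e' : ℕ} (h : e ≤ e') {f : ℤ → ℤ} (hf : Gr e f) : Gr e' f := by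
  induction h with
  | refl => exact hf
  | step _ ih => exact ih.mono_succ

theorem Gr.shift {e : ℕ} {f : ℤ → ℤ} (hf : Gr e f) (hneg : ∀ j < 0, f j = 0) (d : ℕ) :
    Gr e (fun j => f (j - d)) := by
  cases e with
  | zero =>
    obtain ⟨N, hN⟩ := hf
    refine ⟨N + d, fun j hj => ?_⟩
    have h1 : ((j : ℤ) - d) = ((j - d : ℕ) : ℤ) := by omega
    simp only [h1]
    exact hN _ (by omega)
  | succ e =>
    obtain ⟨C, hC⟩ := hf
    refine ⟨C, fun j => ?_⟩
    by_cases hj : d ≤ j
    · have h1 : ((j : ℤ) - d) = ((j - d : ℕ) : ℤ) := by omega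
      simp only [h1]
      refine (hC _).trans ?_
      have : (((j - d : ℕ) : ℤ) + 1) ^ e ≤ (j + 1) ^ e :=
        pow_le_pow_left₀ (by omega) (by omega) e
      exact mul_le_mul_of_nonneg_left this (Int.natCast_nonneg C)
    · have h1 : ((j : ℤ) - d) < 0 := by omega
      simp only [hneg _ h1, abs_zero]
      positivity

/-- summation -/
theorem Gr.sum {e : ℕ} {f g : ℤ → ℤ} (hf : Gr e f) (hneg : ∀ j < 0, g j = 0)
    (h : ∀ j : ℤ, g j = f j + g (j - 1)) : Gr (e + 1) g := by
  have hb : ∀ j : ℕ, |g j| ≤ ∑ i ∈ Finset.range (j + 1), |f i| := by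
    intro j
    induction j with
    | zero =>
      have := h 0
      rw [hneg (0 - 1) (by omega), add_zero] at this
      simp [this]
    | succ j ih =>
      rw [Finset.sum_range_succ, h]
      have h1 : (((j + 1 : ℕ) : ℤ) - 1) = j := by push_cast; ring
      rw [h1]
      refine (abs_add_le _ _).trans ?_
      rw [add_comm]
      exact add_le_add_left ih _
  cases e with
  | zero =>
    obtain ⟨N, hN⟩ := hf
    refine ⟨∑ i ∈ Finset.range N, (f i).natAbs, fun j => (hb j).trans ?_⟩
    rw [pow_zero, mul_one]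
    push_cast
    calc ∑ i ∈ Finset.range (j + 1), |f i|
        ≤ ∑ i ∈ Finset.range (max N (j + 1)), |f i| :=
          Finset.sum_le_sum_of_subset_of_nonneg
            (Finset.range_subset_range.2 (le_max_right _ _)) (fun _ _ _ => abs_nonneg _)
      _ = ∑ i ∈ Finset.range N, |f i| := by
          symm
          apply Finset.sum_subset (Finset.range_subset_range.2 (le_max_left _ _))
          intro i _ hi
          rw [hN i (by simpa using hi), abs_zero]
  | succ e =>
    obtain ⟨C, hC⟩ := hf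
    refine ⟨C, fun j => (hb j).trans ?_⟩
    calc ∑ i ∈ Finset.range (j + 1), |f i|
        ≤ ∑ i ∈ Finset.range (j + 1), ((C : ℤ) * (j + 1) ^ e) := by
          refine Finset.sum_le_sum fun i hi => (hC i).trans ?_
          have hi' : i ≤ j := Nat.lt_succ_iff.1 (Finset.mem_range.1 hi)
          have : ((i : ℤ) + 1) ^ e ≤ (j + 1) ^ e :=
            pow_le_pow_left₀ (by omega) (by omega) e
          exact mul_le_mul_of_nonneg_left this (Int.natCast_nonneg C)
      _ = _ := by
          rw [Finset.sum_const, Finset.card_range, nsmul_eq_mul]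
          push_cast; ring

/-- telescoping -/
theorem Gr.tele {e : ℕ} {f g : ℤ → ℤ} (hf : Gr e f) (hneg : ∀ j < 0, f j = 0)
    (h : ∀ j : ℤ, g j = f j + g (j - 1)) (d : ℕ) : Gr e (fun j => g j - g (j - d)) := by
  induction d with
  | zero => exact (Gr.zero e).congr fun j => by simp
  | succ d ih =>
    refine (ih.add (hf.shift hneg d)).congr fun j => ?_
    have := h (j - d)
    push_cast
    rw [this]
    have h2 : j - d - 1 = j - (d + 1) := by ring
    rw [h2]; ring

open Polynomial in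
/-- a polynomial agreeing with a function of small growth has a vanishing coefficient -/
theorem coeff_eq_zero {e : ℕ} {f : ℤ → ℤ} (hf : Gr e f) (P : ℚ[X])
    (hP : ∃ j₀ : ℕ, ∀ j : ℕ, j₀ ≤ j → ((f j : ℤ) : ℚ) = P.eval (j : ℚ)) : P.coeff e = 0 := by
  obtain ⟨j₀, hj₀⟩ := hP
  cases e with
  | zero =>
    obtain ⟨N, hN⟩ := hf
    have : P = 0 := by
      apply Polynomial.eq_zero_of_infinite_isRoot
      apply Set.infinite_of_injective_forall_mem (f := fun j : ℕ => ((j + N + j₀ : ℕ) : ℚ))
      · intro a b hab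
        have h2 : ((a + N + j₀ : ℕ) : ℚ) = ((b + N + j₀ : ℕ) : ℚ) := hab
        have : a + N + j₀ = b + N + j₀ := by exact_mod_cast h2
        omega
      · intro j
        change P.eval _ = 0
        rw [← hj₀ (j + N + j₀) (by omega), hN (j + N + j₀) (by omega)]
        simp
    rw [this]; simp
  | succ e =>
    obtain ⟨C, hC⟩ := hf
    by_contra hne
    have hdeg : (((X : ℚ[X]) + 1) ^ e).degree < P.degree := by
      have h1 : (((X : ℚ[X]) + 1) ^ e).degree ≤ e := by
        refine (degree_pow_le _ _).trans ?_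
        have : ((X : ℚ[X]) + 1).degree ≤ 1 := by
          have := degree_X_add_C (1 : ℚ)
          rw [map_one] at this
          exact this.le
        calc e • ((X : ℚ[X]) + 1).degree ≤ e • (1 : WithBot ℕ) := nsmul_le_nsmul_right this e
          _ = e := by simp
      refine lt_of_le_of_lt h1 ?_
      exact lt_of_lt_of_le (by exact_mod_cast Nat.lt_succ_self e) (le_degree_of_ne_zero hne)
    have hQ : ((X : ℚ[X]) + 1) ^ e ≠ 0 := by
      apply pow_ne_zero
      intro h
      have := congrArg (Polynomial.eval 0) h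
      simp at this
    have htend := Polynomial.abs_div_tendsto_atTop_atTop_of_degree_gt P (((X : ℚ[X]) + 1) ^ e) hdeg hQ
    have htend2 := htend.comp (tendsto_natCast_atTop_atTop (R := ℚ))
    obtain ⟨j₁, hj₁⟩ := (Filter.tendsto_atTop.1 htend2 (C + 1)).exists_forall_of_atTop
    have h1 := hj₁ (max j₀ j₁) (le_max_right _ _)
    simp only [Function.comp] at h1
    rw [← hj₀ (max j₀ j₁) (le_max_left _ _)] at h1
    simp only [eval_pow, eval_add, eval_X, eval_one] at h1
    set j := max j₀ j₁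
    have hpos : (0 : ℚ) < ((j : ℚ) + 1) ^ e := by positivity
    rw [abs_div, abs_of_pos hpos, le_div_iff₀ hpos] at h1
    have h2 : |((f j : ℤ) : ℚ)| ≤ C * ((j : ℚ) + 1) ^ e := by exact_mod_cast hC j
    nlinarith

end K976.Growth
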