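import Groth.Agent.Liaison.K976.Hilb
import Groth.Agent.Liaison.K976.Growth
import Groth.Agent.CalgC.DimFT

/-!
# Growth of the Hilbert function of a homogeneous ideal
-/

set_option autoImplicit false
universe u v

namespace K976.HGrow

open GrSyz MvPolynomial K976.Unmixed K976.Hilb K976.Growth

variable {K : Type u} [Field K] {n : ℕ}

local notation "R" => MvPolynomial (Fin n) K
local notation "𝒜" => stdGr K (Fin n)

/-- the growth of the Hilbert function -/
abbrev HGr (e : ℕ) (I : Ideal (MvPolynomial (Fin n) K)) : Prop := Gr e (fun j => (hf I j : ℤ))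

theorem nonneg_of_notMem {I : Ideal R} {g : R} {d : ℤ} (hg : g ∈ 𝒜 d) (hgI : g ∉ I) : 0 ≤ d := by
  by_contra h
  push Not at h
  rw [K859.Std.eq_zero_of_mem_stdGr_neg h hg] at hgI
  exact hgI I.zero_mem

theorem hf_irrel {j : ℤ} (hj : 0 < j) : hf (irrel 𝒜).toIdeal j = 0 := by
  have h : V (irrel 𝒜).toIdeal j = ⊥ := by
    rw [eq_bot_iff]
    rintro _ ⟨x, hx, rfl⟩
    rw [Submodule.mem_bot]
    apply Ideal.Quotient.eq_zero_iff_mem.2
    rw [K859.Std.mem_irrel_iff]
    exact K859.Std.constantCoeff_eq_zero_of_mem_stdGr hj.ne' hx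
  rw [hf, h, finrank_bot]

theorem height_irrel : (irrel 𝒜).toIdeal.height = n :=
  Groth.Agent.CalgC.DimFT.height_mvPolynomial_isMaximal n _

theorem hgr_of_prime {D : ℕ} (ih : ∀ E : ℕ, E + 1 = D → ∀ I : Ideal R, I.IsHomogeneous 𝒜 →
      (n : ℕ∞) ≤ E + I.height → HGr E I)
    (q : Ideal R) [q.IsPrime] (hq : q.IsHomogeneous 𝒜) (h : (n : ℕ∞) ≤ D + q.height) :
    HGr D q := by
  by_cases hqi : q = (irrel 𝒜).toIdeal
  · apply Gr.mono (Nat.zero_le D)
    refine ⟨1, fun j hj => ?_⟩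
    have h1 : hf (irrel 𝒜).toIdeal (j : ℤ) = 0 := hf_irrel (by omega)
    change (hf q (j : ℤ) : ℤ) = 0
    rw [hqi, h1]
    rfl
  · have hlt : q < (irrel 𝒜).toIdeal :=
      lt_of_le_of_ne (le_irrel hq (Ideal.IsPrime.ne_top ‹_›)) hqi
    obtain ⟨i, hi⟩ : ∃ i : Fin n, (X i : R) ∉ q := by
      by_contra hcon
      push Not at hcon
      apply not_le_of_gt hlt
      rw [K859.Std.irrel_eq_span_X, Ideal.span_le]
      rintro _ ⟨i, rfl⟩
      exact hcon i
    have hhi : q.height < (irrel 𝒜).toIdeal.height := Ideal.height_strict_mono_of_isPrime hlt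
    rw [height_irrel] at hhi
    obtain ⟨a, ha⟩ := ENat.ne_top_iff_exists.1 (ne_top_of_lt hhi)
    have hltx : q < q ⊔ Ideal.span {(X i : R)} := by
      refine lt_of_le_of_ne le_sup_left fun h => hi ?_
      rw [h]
      exact Ideal.mem_sup_right (Ideal.mem_span_singleton_self _)
    have hx := Ideal.height_strict_mono_of_isPrime hltx
    have hx' := Order.add_one_le_of_lt hx
    rw [← ha] at h hhi hx'
    have h1 : n ≤ D + a := by exact_mod_cast h
    have h2 : a < n := by exact_mod_cast hhi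
    obtain ⟨E, rfl⟩ : ∃ E, D = E + 1 := ⟨D - 1, by omega⟩
    have hhom : (q ⊔ Ideal.span {(X i : R)}).IsHomogeneous 𝒜 := by
      refine hq.sup (Ideal.homogeneous_span _ _ ?_)
      rintro x rfl
      exact ⟨1, K859.Std.X_mem_stdGr_one i⟩
    have h3 := ih E rfl (q ⊔ Ideal.span {(X i : R)}) hhom (by
      refine le_trans ?_ (add_le_add_right hx' _)
      exact_mod_cast (by omega : n ≤ E + (a + 1)))
    refine Gr.sum h3 (fun j hj => by rw [hf_neg _ hj]; rfl) fun j => ?_
    rw [hf_add hq (K859.Std.X_mem_stdGr_one i) (q := q)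
      (fun y => ⟨fun h => q.mul_mem_left _ h, fun h => (Ideal.IsPrime.mem_or_mem ‹_› h).resolve_left hi⟩) j]
    push_cast
    rfl

theorem hgr_step {D : ℕ} (ih : ∀ E : ℕ, E + 1 = D → ∀ I : Ideal R, I.IsHomogeneous 𝒜 →
      (n : ℕ∞) ≤ E + I.height → HGr E I)
    (I : Ideal R) (hI : I.IsHomogeneous 𝒜) : (n : ℕ∞) ≤ D + I.height → HGr D I := by
  apply Hilb.induction (fun I => (n : ℕ∞) ≤ D + I.height → HGr D I) ⊥ _ _ I bot_le hI
  · intro _
    exact (Gr.zero D).congr fun j => by rw [hf_top]; rfl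
  · intro I g d q _ hI hg hqp hqh hmem hgI hh h1 h
    obtain ⟨d, rfl⟩ := Int.eq_ofNat_of_zero_le (nonneg_of_notMem hg hgI)
    have h2 : HGr D (I ⊔ Ideal.span {g}) :=
      h1 (h.trans (add_le_add_right (Ideal.height_mono le_sup_left) _))
    have hIq : I ≤ q := fun y hy => (hmem y).2 (I.mul_mem_left _ hy)
    have h3 : HGr D q := hgr_of_prime ih q hqh
      (h.trans (add_le_add_right (Ideal.height_mono hIq) _))
    refine (h2.add (Gr.shift h3 (fun j hj => by rw [hf_neg _ hj]; rfl) d)).congr fun j => ?_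
    rw [hf_add hI hg hmem j]
    push_cast
    rfl

/-- the Hilbert function of `R/I` grows like the power `dim R/I - 1` -/
theorem hgr {D : ℕ} : ∀ I : Ideal R, I.IsHomogeneous 𝒜 → (n : ℕ∞) ≤ D + I.height → HGr D I := by
  induction D with
  | zero => exact hgr_step (fun E hE => absurd hE (Nat.succ_ne_zero E))
  | succ D ih =>
    refine hgr_step fun E hE => ?_
    obtain rfl : E = D := by omega
    exact ih

/-- degree shifts only change the Hilbert function by lower order terms -/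
theorem hgr_shift {D : ℕ} {q : Ideal R} [q.IsPrime] (hq : q.IsHomogeneous 𝒜)
    (h : (n : ℕ∞) ≤ (D + 1 : ℕ) + q.height) (hqi : q ≠ (irrel 𝒜).toIdeal) (d : ℕ) :
    Gr D (fun j => (hf q j : ℤ) - hf q (j - d)) := by
  have hlt : q < (irrel 𝒜).toIdeal :=
    lt_of_le_of_ne (le_irrel hq (Ideal.IsPrime.ne_top ‹_›)) hqi
  obtain ⟨i, hi⟩ : ∃ i : Fin n, (X i : R) ∉ q := by
    by_contra hcon
    push Not at hcon
    apply not_le_of_gt hlt
    rw [K859.Std.irrel_eq_span_X, Ideal.span_le]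
    rintro _ ⟨i, rfl⟩
    exact hcon i
  have hltx : q < q ⊔ Ideal.span {(X i : R)} := by
    refine lt_of_le_of_ne le_sup_left fun h => hi ?_
    rw [h]
    exact Ideal.mem_sup_right (Ideal.mem_span_singleton_self _)
  have hx := Ideal.height_strict_mono_of_isPrime hltx
  have hx' := Order.add_one_le_of_lt hx
  have hhom : (q ⊔ Ideal.span {(X i : R)}).IsHomogeneous 𝒜 := by
    refine hq.sup (Ideal.homogeneous_span _ _ ?_)
    rintro x rfl
    exact ⟨1, K859.Std.X_mem_stdGr_one i⟩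
  have h3 : HGr D (q ⊔ Ideal.span {(X i : R)}) := hgr _ hhom (by
    refine le_trans (h.trans_eq ?_) (add_le_add_right hx' _)
    push_cast
    rw [add_assoc, add_comm (1 : ℕ∞)])
  refine Gr.tele (f := fun j => (hf (q ⊔ Ideal.span {(X i : R)}) j : ℤ))
    (g := fun j => (hf q j : ℤ)) h3 (fun j hj => by rw [hf_neg _ hj]; rfl) (fun j => ?_) d
  rw [hf_add hq (K859.Std.X_mem_stdGr_one i) (q := q)
    (fun y => ⟨fun h => q.mul_mem_left _ h, fun h => (Ideal.IsPrime.mem_or_mem ‹_› h).resolve_left hi⟩) j]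
  push_cast
  rfl

end K976.HGrow
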