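import Groth.Agent.Liaison.K976.Unmixed
import Mathlib.RingTheory.MvPolynomial.Basic
import Mathlib.LinearAlgebra.FiniteDimensional.Lemmas

/-!
# Hilbert functions of homogeneous ideals of a polynomial ring
-/

set_option autoImplicit false
universe u v

namespace K976.Hilb

open GrSyz MvPolynomial K976.Unmixed

variable {K : Type u} [Field K] {n : ℕ}

local notation "R" => MvPolynomial (Fin n) K
local notation "𝒜" => stdGr K (Fin n)

/-- the degree-`j` part of `R/I` -/
noncomputable def V (I : Ideal (MvPolynomial (Fin n) K)) (j : ℤ) :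
    Submodule K (MvPolynomial (Fin n) K ⧸ I) :=
  Submodule.map (Ideal.Quotient.mkₐ K I).toLinearMap (stdGr K (Fin n) j)

/-- the Hilbert function of `R/I` -/
noncomputable def hf (I : Ideal (MvPolynomial (Fin n) K)) (j : ℤ) : ℕ :=
  Module.finrank K (V I j)

theorem mem_V {I : Ideal R} {j : ℤ} {y : R ⧸ I} :
    y ∈ V I j ↔ ∃ x ∈ 𝒜 j, Ideal.Quotient.mk I x = y := Iff.rfl

instance finite_stdGr (j : ℤ) : Module.Finite K (𝒜 j) := by
  have hle : 𝒜 j ≤ restrictTotalDegree (Fin n) K j.toNat := by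
    intro p hp
    rw [mem_restrictTotalDegree]
    refine Finset.sup_le fun d hd => ?_
    have h1 := (mem_stdGr_iff K (Fin n) j p).1 hp (d := d) (mem_support_iff.1 hd)
    rw [K859.Std.weight_one_eq] at h1
    have : (d.sum fun _ e => e) ≤ j.toNat := by omega
    exact this
  exact Module.Finite.of_injective (Submodule.inclusion hle) (Submodule.inclusion_injective hle)

instance finite_V (I : Ideal R) (j : ℤ) : Module.Finite K (V I j) :=
  Module.Finite.map _ _

theorem hf_top (j : ℤ) : hf (⊤ : Ideal R) j = 0 := by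
  have : Subsingleton (R ⧸ (⊤ : Ideal R)) := Ideal.Quotient.subsingleton_iff.2 rfl
  have : Subsingleton (V (⊤ : Ideal R) j) := inferInstance
  exact Module.finrank_zero_of_subsingleton

theorem hf_neg (I : Ideal R) {j : ℤ} (hj : j < 0) : hf I j = 0 := by
  have h : V I j = ⊥ := by
    rw [eq_bot_iff]
    rintro _ ⟨x, hx, rfl⟩
    rw [K859.Std.eq_zero_of_mem_stdGr_neg hj hx, map_zero]
    exact Submodule.zero_mem _
  rw [hf, h, finrank_bot]

/-- component of a multiple of a homogeneous element -/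
theorem decompose_mul {g : R} {d : ℤ} (hg : g ∈ 𝒜 d) (y : R) (j : ℤ) :
    (DirectSum.decompose 𝒜 (g * y) j : R) = g * DirectSum.decompose 𝒜 y (j - d) := by
  have := DirectSum.coe_decompose_mul_add_of_left_mem 𝒜 (j := j - d) (b := y) hg
  rwa [add_sub_cancel] at this

theorem finrank_map_add {M N : Type*} [AddCommGroup M] [Module K M] [AddCommGroup N] [Module K N]
    (f : M →ₗ[K] N) (p : Submodule K M) [Module.Finite K p] :
    Module.finrank K (p.map f) + Module.finrank K ↥(p ⊓ LinearMap.ker f) = Module.finrank K p := by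
  have h := LinearMap.finrank_range_add_finrank_ker (f.domRestrict p)
  rw [← h]
  congr 1
  · rw [LinearMap.range_domRestrict]
  · have h2 : (LinearMap.ker (f.domRestrict p)).map p.subtype = p ⊓ LinearMap.ker f := by
      ext x
      simp only [Submodule.mem_map, LinearMap.mem_ker, Submodule.mem_inf]
      constructor
      · rintro ⟨y, hy, rfl⟩
        exact ⟨y.2, hy⟩
      · rintro ⟨hx, hfx⟩
        exact ⟨⟨x, hx⟩, hfx, rfl⟩
    rw [← h2]
    exact (LinearEquiv.finrank_eq
      (Submodule.equivMapOfInjective p.subtype p.injective_subtype _)).symm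

/-- multiplication by `g` from `R/(I : g)` to `R/I` -/
noncomputable def mulg (I q : Ideal R) (g : R) (h : ∀ y, y ∈ q ↔ g * y ∈ I) :
    (R ⧸ q) →ₗ[K] (R ⧸ I) :=
  (Submodule.mapQ q I (LinearMap.mulLeft R g) (fun y hy => (h y).1 hy)).restrictScalars K

theorem mulg_mk (I q : Ideal R) (g : R) (h : ∀ y, y ∈ q ↔ g * y ∈ I) (y : R) :
    mulg I q g h (Ideal.Quotient.mk q y) = Ideal.Quotient.mk I (g * y) := rfl

theorem mulg_injective (I q : Ideal R) (g : R) (h : ∀ y, y ∈ q ↔ g * y ∈ I) :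
    Function.Injective (mulg I q g h) := by
  rw [injective_iff_map_eq_zero]
  intro y hy
  obtain ⟨y, rfl⟩ := Ideal.Quotient.mk_surjective y
  rw [mulg_mk, Ideal.Quotient.eq_zero_iff_mem, ← h] at hy
  exact Ideal.Quotient.eq_zero_iff_mem.2 hy

/-- the projection `R/I → R/(I + g)` -/
noncomputable def pr (I : Ideal R) (g : R) : (R ⧸ I) →ₗ[K] (R ⧸ (I ⊔ Ideal.span {g})) :=
  (Submodule.factor (le_sup_left : I ≤ I ⊔ Ideal.span {g})).restrictScalars K

theorem pr_mk (I : Ideal R) (g x : R) :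
    pr I g (Ideal.Quotient.mk I x) = Ideal.Quotient.mk _ x := rfl

/-- additivity of the Hilbert function -/
theorem hf_add {I q : Ideal R} (hI : I.IsHomogeneous 𝒜) {g : R} {d : ℤ} (hg : g ∈ 𝒜 d)
    (h : ∀ y, y ∈ q ↔ g * y ∈ I) (j : ℤ) :
    hf I j = hf (I ⊔ Ideal.span {g}) j + hf q (j - d) := by
  have h1 : (V I j).map (pr I g) = V (I ⊔ Ideal.span {g}) j := by
    ext y
    constructor
    · rintro ⟨_, ⟨x, hx, rfl⟩, rfl⟩
      exact ⟨x, hx, rfl⟩
    · rintro ⟨x, hx, rfl⟩
      exact ⟨_, ⟨x, hx, rfl⟩, rfl⟩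
  have h2 : V I j ⊓ LinearMap.ker (pr I g) = (V q (j - d)).map (mulg I q g h) := by
    ext y
    constructor
    · rintro ⟨⟨x, hx, rfl⟩, hy⟩
      have hy' : x ∈ I ⊔ Ideal.span {g} := Ideal.Quotient.eq_zero_iff_mem.1 hy
      obtain ⟨a, ha, b, hb, hab⟩ := Submodule.mem_sup.1 hy'
      obtain ⟨z, rfl⟩ := Ideal.mem_span_singleton.1 hb
      have h3 : x = DirectSum.decompose 𝒜 a j + g * DirectSum.decompose 𝒜 z (j - d) := by
        rw [← decompose_mul hg, ← DirectSum.decompose_of_mem_same 𝒜 hx, ← hab,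
          DirectSum.decompose_add]
        simp
      refine ⟨Ideal.Quotient.mk q (DirectSum.decompose 𝒜 z (j - d) : R),
        ⟨_, SetLike.coe_mem _, rfl⟩, ?_⟩
      rw [mulg_mk]
      change _ = Ideal.Quotient.mk I x
      rw [Ideal.Quotient.eq, ← neg_mem_iff]
      have h4 : -(g * (DirectSum.decompose 𝒜 z (j - d) : R) - x) = DirectSum.decompose 𝒜 a j := by
        rw [h3]; ring
      rw [h4]
      exact hI j ha
    · rintro ⟨_, ⟨z, hz, rfl⟩, rfl⟩
      constructor
      · refine ⟨g * z, ?_, rfl⟩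
        have := SetLike.mul_mem_graded hg hz
        rwa [add_sub_cancel] at this
      · change Ideal.Quotient.mk _ (g * z) = 0
        rw [Ideal.Quotient.eq_zero_iff_mem]
        exact Ideal.mem_sup_right (Ideal.mul_mem_right _ _ (Ideal.mem_span_singleton_self g))
  have h3 := finrank_map_add (pr I g) (V I j)
  rw [h1, h2] at h3
  rw [hf, ← h3]
  congr 1
  exact (LinearEquiv.finrank_eq (Submodule.equivMapOfInjective _ (mulg_injective I q g h) _)).symm

/-- a proper homogeneous ideal has a homogeneous associated prime with a homogeneous generator -/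
theorem exists_colon_prime {I : Ideal R} (hI : I.IsHomogeneous 𝒜) (hne : I ≠ ⊤) :
    ∃ (g : R) (d : ℤ) (q : Ideal R), g ∈ 𝒜 d ∧ g ∉ I ∧ q.IsPrime ∧ q.IsHomogeneous 𝒜 ∧
      ∀ y, y ∈ q ↔ g * y ∈ I := by
  classical
  let S : Set (Ideal R) := {q | ∃ (g : R) (d : ℤ), g ∈ 𝒜 d ∧ g ∉ I ∧ q = I.colon {g}}
  have hS : S.Nonempty := ⟨_, 1, 0, SetLike.one_mem_graded 𝒜,
    fun h => hne ((Ideal.eq_top_iff_one _).2 h), rfl⟩
  obtain ⟨q, ⟨g, d, hg, hgI, rfl⟩, hmax⟩ := set_has_maximal_iff_noetherian.mpr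
    (inferInstance : IsNoetherian R R) S hS
  have hmem : ∀ (g y : R), y ∈ I.colon {g} ↔ g * y ∈ I := by
    intro g y
    rw [Submodule.mem_colon_singleton, smul_eq_mul, mul_comm]
  have hhom : (I.colon {g}).IsHomogeneous 𝒜 := by
    intro j y hy
    rw [hmem] at hy ⊢
    have h1 := hI (d + j) hy
    rw [DirectSum.coe_decompose_mul_add_of_left_mem 𝒜 hg] at h1
    exact h1
  refine ⟨g, d, I.colon {g}, hg, hgI, ?_, hhom, hmem g⟩
  apply hhom.isPrime_of_homogeneous_mem_or_mem
  · intro h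
    apply hgI
    have := (hmem g 1).1 (by rw [h]; trivial)
    simpa using this
  · rintro a b ⟨i, ha⟩ ⟨j, hb⟩ hab
    by_contra hcon
    push Not at hcon
    obtain ⟨hna, hnb⟩ := hcon
    -- `I : (g b)` is strictly bigger
    have hgb : g * b ∉ I := fun h => hnb ((hmem g b).2 h)
    have h1 : I.colon {g} ≤ I.colon {g * b} := by
      intro y hy
      rw [hmem] at hy ⊢
      have : g * b * y = b * (g * y) := by ring
      rw [this]
      exact I.mul_mem_left _ hy
    have h2 : ¬ (I.colon {g} < I.colon {g * b}) :=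
      hmax _ ⟨g * b, d + j, SetLike.mul_mem_graded hg hb, hgb, rfl⟩
    have h3 : a ∈ I.colon {g * b} := by
      rw [hmem] at hab ⊢
      have : g * b * a = g * (a * b) := by ring
      rwa [this]
    exact h2 (lt_of_le_of_ne h1 fun h => hna (h ▸ h3))

/-- Induction along graded prime filtrations. -/
theorem induction (P : Ideal R → Prop) (C : Ideal R) (htop : P ⊤)
    (hstep : ∀ (I : Ideal R) (g : R) (d : ℤ) (q : Ideal R), C ≤ I → I.IsHomogeneous 𝒜 →
      g ∈ 𝒜 d → q.IsPrime → q.IsHomogeneous 𝒜 → (∀ y, y ∈ q ↔ g * y ∈ I) → g ∉ I →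
      (I ⊔ Ideal.span {g}).IsHomogeneous 𝒜 → P (I ⊔ Ideal.span {g}) → P I)
    (I : Ideal R) (hCI : C ≤ I) (hI : I.IsHomogeneous 𝒜) : P I := by
  induction I using WellFoundedGT.induction with
  | ind I ih =>
    by_cases hne : I = ⊤
    · rw [hne]; exact htop
    · obtain ⟨g, d, q, hg, hgI, hq, hqh, hmem⟩ := exists_colon_prime hI hne
      have hh : (I ⊔ Ideal.span {g}).IsHomogeneous 𝒜 := by
        refine hI.sup (Ideal.homogeneous_span _ _ ?_)
        rintro x rfl
        exact ⟨d, hg⟩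
      refine hstep I g d q hCI hI hg hq hqh hmem hgI hh (ih _ ?_ (hCI.trans le_sup_left) hh)
      refine lt_of_le_of_ne le_sup_left fun h => hgI ?_
      rw [h]
      exact Ideal.mem_sup_right (Ideal.mem_span_singleton_self g)

end K976.Hilb
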