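import Groth.Agent.Liaison.K976.Phi
import Groth.Agent.Liaison.K976.GorLoc
import Mathlib.RingTheory.Length

/-!
# Multiplicities at minimal primes
-/

set_option autoImplicit false
universe u v

namespace K976.Len

open K976.Unmixed K976.LocQuot K976.Phi K976.GorLoc IsLocalRing

section Loc

variable {A : Type u} [CommRing A]

/-- additivity of the length -/
theorem length_add (a q : Ideal A) (g : A) (h : ∀ y, y ∈ q ↔ g * y ∈ a) :
    Module.length A (A ⧸ a) =
      Module.length A (A ⧸ (a ⊔ Ideal.span {g})) + Module.length A (A ⧸ q) := by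
  let f : (A ⧸ q) →ₗ[A] (A ⧸ a) :=
    Submodule.mapQ q a (LinearMap.mulLeft A g) (fun y hy => (h y).1 hy)
  let k : (A ⧸ a) →ₗ[A] (A ⧸ (a ⊔ Ideal.span {g})) :=
    Submodule.factor (le_sup_left : a ≤ a ⊔ Ideal.span {g})
  have hf : Function.Injective f := by
    rw [injective_iff_map_eq_zero]
    intro y hy
    obtain ⟨y, rfl⟩ := Ideal.Quotient.mk_surjective y
    have hy' : Ideal.Quotient.mk a (g * y) = 0 := hy
    rw [Ideal.Quotient.eq_zero_iff_mem, ← h] at hy'
    exact Ideal.Quotient.eq_zero_iff_mem.2 hy'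
  have hk : Function.Surjective k := by
    intro y
    obtain ⟨y, rfl⟩ := Ideal.Quotient.mk_surjective y
    exact ⟨Ideal.Quotient.mk a y, rfl⟩
  have hex : Function.Exact f k := by
    intro y
    obtain ⟨y, rfl⟩ := Ideal.Quotient.mk_surjective y
    constructor
    · intro hy
      have hy' : y ∈ a ⊔ Ideal.span {g} := Ideal.Quotient.eq_zero_iff_mem.1 hy
      obtain ⟨b, hb, c, hc, hbc⟩ := Submodule.mem_sup.1 hy'
      obtain ⟨z, rfl⟩ := Ideal.mem_span_singleton.1 hc
      refine ⟨Ideal.Quotient.mk q z, ?_⟩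
      change Ideal.Quotient.mk a (g * z) = Ideal.Quotient.mk a y
      rw [Ideal.Quotient.eq, ← neg_mem_iff]
      have : -(g * z - y) = b := by rw [← hbc]; ring
      rwa [this]
    · rintro ⟨z, hz⟩
      obtain ⟨z, rfl⟩ := Ideal.Quotient.mk_surjective z
      rw [← hz]
      change Ideal.Quotient.mk _ (g * z) = 0
      rw [Ideal.Quotient.eq_zero_iff_mem]
      exact Ideal.mem_sup_right (Ideal.mul_mem_right _ _ (Ideal.mem_span_singleton_self g))
  rw [Module.length_eq_add_of_exact f k hf hk hex, add_comm]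

/-- Duality over an Artinian Gorenstein local ring. -/
theorem length_ann [LocCoh.IsGorensteinLocalRing A] (h : ringKrullDim A = 0) (I J : Ideal A)
    (hJ : ∀ y, y ∈ J ↔ ∀ a ∈ I, y * a = 0) :
    Module.length A (A ⧸ J) + Module.length A (A ⧸ I) = Module.length A A := by
  -- the annihilator
  let an : Ideal A → Ideal A := fun I => (⊥ : Ideal A).colon (I : Set A)
  have han : ∀ (I : Ideal A) (y : A), y ∈ an I ↔ ∀ a ∈ I, y * a = 0 := by
    intro I y
    simp only [an]
    rw [Submodule.mem_colon]
    rfl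
  have hanan : ∀ I : Ideal A, an (an I) = I := by
    intro I
    ext x
    rw [han]
    constructor
    · intro hx
      apply ann_ann A h
      intro y hy
      rw [mul_comm]
      exact hx y ((han I y).2 hy)
    · intro hx a ha
      rw [mul_comm]
      exact (han I a).1 ha x hx
  have hanti : ∀ I J : Ideal A, I ≤ J → an J ≤ an I := by
    intro I J hIJ y hy
    rw [han] at hy ⊢
    exact fun a ha => hy a (hIJ ha)
  let e : Ideal A ≃o (Ideal A)ᵒᵈ :=
    { toFun := fun I => OrderDual.toDual (an I)
      invFun := fun I => an (OrderDual.ofDual I)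
      left_inv := hanan
      right_inv := fun I => hanan _
      map_rel_iff' := by
        intro I J
        change an J ≤ an I ↔ I ≤ J
        constructor
        · intro hle
          have := hanti _ _ hle
          rwa [hanan, hanan] at this
        · exact hanti _ _ }
  have hJe : J = an I := by
    ext y
    rw [hJ, han]
  have h1 : Module.length A (A ⧸ J) = Module.length A I := by
    rw [Module.length_quotient, Module.length_submodule, hJe]
    exact Order.height_orderIso e I
  rw [h1]
  exact (Module.length_eq_add_of_exact I.subtype I.mkQ I.injective_subtype I.mkQ_surjective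
    (LinearMap.exact_subtype_mkQ I)).symm

end Loc

variable {R : Type u} [CommRing R]

/-- the multiplicity of `R/I` at `p` -/
noncomputable def ell (C p : Ideal R) [p.IsPrime] (I : Ideal R) : ℕ∞ :=
  Module.length (Lq C p) (Lq C p ⧸ I.map (phi C p))

theorem mem_map_colon_singleton {C p : Ideal R} [p.IsPrime] {I q : Ideal R} (hCI : C ≤ I) {g : R}
    (h : ∀ y, y ∈ q ↔ g * y ∈ I) (y : Lq C p) :
    y ∈ q.map (phi C p) ↔ phi C p g * y ∈ I.map (phi C p) := by
  have hCq : C ≤ q := fun y hy => (h y).2 (I.mul_mem_left _ (hCI hy))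
  obtain ⟨x, s, hs, hx⟩ := exists_phi y
  have hu := isUnit_phi (C := C) hs
  have h1 : y ∈ q.map (phi C p) ↔ phi C p x ∈ q.map (phi C p) := by
    rw [← hx, mul_comm]
    exact (Ideal.unit_mul_mem_iff_mem _ hu).symm
  have h2 : phi C p g * y ∈ I.map (phi C p) ↔ phi C p (g * x) ∈ I.map (phi C p) := by
    have : phi C p (g * x) = phi C p s * (phi C p g * y) := by
      rw [map_mul, ← hx]; ring
    rw [this]
    exact (Ideal.unit_mul_mem_iff_mem _ hu).symm
  rw [h1, h2, phi_mem_iff hCq, phi_mem_iff hCI]
  refine exists_congr fun t => and_congr Iff.rfl ?_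
  rw [h]
  have : g * (t * x) = t * (g * x) := by ring
  rw [this]

theorem ell_add {C p : Ideal R} [p.IsPrime] {I q : Ideal R} (hCI : C ≤ I) {g : R}
    (h : ∀ y, y ∈ q ↔ g * y ∈ I) :
    ell C p I = ell C p (I ⊔ Ideal.span {g}) + ell C p q := by
  rw [ell, ell, ell, length_add _ _ (phi C p g) (mem_map_colon_singleton hCI h), map_sup_span]

theorem ell_eq_zero {C p : Ideal R} [p.IsPrime] {I : Ideal R} (hCI : C ≤ I) (h : ¬ I ≤ p) :
    ell C p I = 0 := by
  have h1 := (map_phi_eq_top_iff (m := p) hCI).2 h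
  have : Subsingleton (Lq C p ⧸ I.map (phi C p)) := Ideal.Quotient.subsingleton_iff.2 h1
  exact Module.length_eq_zero

theorem ell_self {C p : Ideal R} [p.IsPrime] (hCp : C ≤ p) : ell C p p = 1 := by
  have h1 := isLocalRing_quot_map p hCp
  have h2 : (p.map (phi C p)).IsMaximal := by
    have hle : p.map (phi C p) ≤ maximalIdeal (Lq C p) := by
      apply IsLocalRing.le_maximalIdeal
      rw [Ne, map_phi_eq_top_iff hCp, not_not]
    have : p.map (phi C p) = maximalIdeal (Lq C p) := by
      refine le_antisymm hle fun y hy => ?_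
      obtain ⟨x, s, hs, hx⟩ := exists_phi y
      by_cases hxp : x ∈ p
      · have h3 : phi C p x ∈ p.map (phi C p) := Ideal.mem_map_of_mem _ hxp
        rw [← hx, mul_comm] at h3
        exact (Ideal.unit_mul_mem_iff_mem _ (isUnit_phi hs)).1 h3
      · exfalso
        have h3 : IsUnit (phi C p x) := isUnit_phi hxp
        rw [← hx] at h3
        rw [mem_maximalIdeal, mem_nonunits_iff] at hy
        exact hy (isUnit_of_mul_isUnit_left h3)
    rw [this]
    exact maximalIdeal.isMaximal _
  rw [ell, Module.length_eq_one_iff]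
  exact isSimpleModule_iff_isCoatom.2 (Ideal.isMaximal_def.1 h2)

theorem ell_dual [IsNoetherianRing R] {C p : Ideal R} [p.IsPrime]
    (hC : LocCoh.IsGorensteinLocalRing (Lq C p)) (hdim : ringKrullDim (Lq C p) = 0)
    {I J : Ideal R} (hCJ : C ≤ J) (hJ : ∀ y, y ∈ J ↔ ∀ a ∈ I, y * a ∈ C) :
    ell C p J + ell C p I = ell C p C := by
  have h1 := length_ann hdim _ _ (mem_map_colon (m := p) hCJ hJ)
  have h2 : C.map (phi C p) = ⊥ := by
    rw [eq_bot_iff, Ideal.map_le_iff_le_comap]
    intro x hx
    rw [Ideal.mem_comap, Submodule.mem_bot, phi_eq_zero_iff]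
    exact ⟨1, fun h => Ideal.IsPrime.ne_top ‹p.IsPrime› ((Ideal.eq_top_iff_one p).2 h), by
      rwa [one_mul]⟩
  have h3 : ell C p C = Module.length (Lq C p) (Lq C p) := by
    rw [ell, h2]
    exact LinearEquiv.length_eq (Submodule.quotEquivOfEqBot _ rfl)
  rw [h3, ← h1]
  rfl

end K976.Len
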