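import Groth.Agent.Liaison.K976.Unmixed
import Groth.Agent.S0341

/-!
# Linkage by a homogeneous Cohen-Macaulay or Gorenstein ideal
-/

set_option autoImplicit false
universe u v

namespace K976.Link

open GrSyz MvPolynomial K976.Unmixed

theorem isCohenMacaulayRing_of_isGorensteinRing {A : Type u} [CommRing A]
    (h : LocCoh.IsGorensteinRing A) : LocCoh.IsCohenMacaulayRing A where
  isCohenMacaulayLocalRing_localization p _ :=
    have := h.isGorensteinLocalRing_localization p
    Groth.Agent.S0341.result (Localization.AtPrime p)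

variable {K : Type u} [Field K] {n : ℕ}

theorem colon_ne_top {R : Type u} [CommRing R] {C I : Ideal R} (h : ¬ I ≤ C) :
    C.colon (I : Set R) ≠ ⊤ := by
  intro h1
  apply h
  intro x hx
  have h2 : (1 : R) ∈ C.colon (I : Set R) := by rw [h1]; trivial
  rw [Submodule.mem_colon] at h2
  simpa using h2 x hx

theorem le_colon {R : Type u} [CommRing R] (C I : Ideal R) : C ≤ C.colon (I : Set R) := by
  intro x hx
  rw [Submodule.mem_colon]
  intro y _
  exact C.mul_mem_right _ hx

/-- associated primes of `R/(C : I)` have the height of `C` -/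
theorem height_of_mem_ass_colon {C : Ideal (MvPolynomial (Fin n) K)}
    (hC : C.IsHomogeneous (stdGr K (Fin n)))
    (hCM : LocCoh.IsCohenMacaulayRing (MvPolynomial (Fin n) K ⧸ C))
    (I : Ideal (MvPolynomial (Fin n) K)) {p : Ideal (MvPolynomial (Fin n) K)}
    (hp : p ∈ associatedPrimes (MvPolynomial (Fin n) K)
      (MvPolynomial (Fin n) K ⧸ C.colon (I : Set (MvPolynomial (Fin n) K)))) :
    p.height = C.height :=
  height_of_mem_ass hC hCM (ass_colon_subset C I hp)

theorem height_eq_of_ass {R : Type u} [CommRing R] [IsNoetherianRing R] {I : Ideal R} {c : ℕ∞}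
    (hI : I ≠ ⊤)
    (h : ∀ p ∈ associatedPrimes R (R ⧸ I), p.height = c) : I.height = c := by
  rw [Ideal.height_eq_inf_minimalPrimes (I := I)]
  obtain ⟨⟨p, hp⟩⟩ := Ideal.nonempty_minimalPrimes hI
  apply le_antisymm
  · exact (iInf₂_le p hp).trans (h p (mem_ass_of_mem_minimalPrimes hp)).le
  · exact le_iInf₂ fun q hq => (h q (mem_ass_of_mem_minimalPrimes hq)).ge

theorem colon_height {C : Ideal (MvPolynomial (Fin n) K)}
    (hC : C.IsHomogeneous (stdGr K (Fin n)))
    (hCM : LocCoh.IsCohenMacaulayRing (MvPolynomial (Fin n) K ⧸ C))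
    {I : Ideal (MvPolynomial (Fin n) K)} (hI : ¬ I ≤ C) :
    (C.colon (I : Set (MvPolynomial (Fin n) K))).height = C.height :=
  height_eq_of_ass (colon_ne_top hI) fun _ hp => height_of_mem_ass_colon hC hCM I hp

/-- If `p` has the height of `C` and contains `I ≥ C` then it is a minimal prime of `I`. -/
theorem mem_minimalPrimes_of_height {R : Type u} [CommRing R] [IsNoetherianRing R] {C I p : Ideal R}
    [p.IsPrime] (hCI : C ≤ I) (hIp : I ≤ p) (hh : p.height = C.height) : p ∈ I.minimalPrimes :=
  Ideal.mem_minimalPrimes_of_height_le hIp (hh.le.trans (Ideal.height_mono hCI))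

theorem inf_eq {C I J : Ideal (MvPolynomial (Fin n) K)}
    (hC : C.IsHomogeneous (stdGr K (Fin n)))
    (hCM : LocCoh.IsCohenMacaulayRing (MvPolynomial (Fin n) K ⧸ C))
    (hIJ : C.colon (I : Set (MvPolynomial (Fin n) K)) = J)
    (hJI : C.colon (J : Set (MvPolynomial (Fin n) K)) = I)
    (hdisj : Disjoint (associatedPrimes (MvPolynomial (Fin n) K) (MvPolynomial (Fin n) K ⧸ I))
      (associatedPrimes (MvPolynomial (Fin n) K) (MvPolynomial (Fin n) K ⧸ J))) :
    I ⊓ J = C := by
  have hCI : C ≤ I := hJI ▸ le_colon C J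
  have hCJ : C ≤ J := hIJ ▸ le_colon C I
  refine le_antisymm (fun x hx => ?_) (le_inf hCI hCJ)
  -- `I + J` is contained in no associated prime of `C`
  have h1 : ∀ p ∈ associatedPrimes (MvPolynomial (Fin n) K) (MvPolynomial (Fin n) K ⧸ C),
      ¬ (I ⊔ J ≤ p) := by
    intro p hp hle
    have hpp : p.IsPrime := hp.isPrime
    have hh := height_of_mem_ass hC hCM hp
    have h2 := mem_ass_of_mem_minimalPrimes
      (mem_minimalPrimes_of_height hCI (le_sup_left.trans hle) hh)
    have h3 := mem_ass_of_mem_minimalPrimes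
      (mem_minimalPrimes_of_height hCJ (le_sup_right.trans hle) hh)
    exact Set.disjoint_left.1 hdisj h2 h3
  by_contra hxC
  obtain ⟨P, hP, hle⟩ := exists_le_isAssociatedPrime_of_isNoetherianRing
    (MvPolynomial (Fin n) K) (Ideal.Quotient.mk C x)
    (fun h => hxC (Ideal.Quotient.eq_zero_iff_mem.1 h))
  refine h1 P hP (sup_le ?_ ?_ |>.trans hle)
  · intro y hy
    rw [Submodule.mem_colon_singleton, Submodule.mem_bot]
    refine Ideal.Quotient.eq_zero_iff_mem.2 ?_
    have := hx.2
    rw [SetLike.mem_coe, ← hIJ, Submodule.mem_colon] at this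
    have := this y hy
    rwa [smul_eq_mul, mul_comm] at this
  · intro y hy
    rw [Submodule.mem_colon_singleton, Submodule.mem_bot]
    refine Ideal.Quotient.eq_zero_iff_mem.2 ?_
    have := hx.1
    rw [SetLike.mem_coe, ← hJI, Submodule.mem_colon] at this
    have := this y hy
    rwa [smul_eq_mul, mul_comm] at this

end K976.Link
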