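import Groth.Agent.Liaison.K976.Double
import Groth.Agent.Liaison.K976.GorLoc
import Groth.Agent.LoccohA.LES2
import Groth.Agent.Localalg.DepthLC
import Groth.Agent.CalgC.DimFT

/-!
# Local cohomology of basic double links
-/

set_option autoImplicit false
universe u v

namespace K976.LocCoho

open K976.Unmixed K976.LocQuot K976.GorLoc K976.Double IsLocalRing
open Groth.Agent.Pi1A.Linkage703 (WReg NZ isWeaklyRegular_iff)

theorem le_of_add_one_le {a : WithBot ℕ∞} {k : ℕ} (h : ((k + 1 : ℕ) : WithBot ℕ∞) ≤ a + 1) :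
    (k : WithBot ℕ∞) ≤ a := by
  induction a with
  | bot =>
    rw [WithBot.bot_add, le_bot_iff] at h
    exact absurd h (WithBot.coe_ne_bot (a := ((k + 1 : ℕ) : ℕ∞)))
  | coe a =>
    have h1 : ((k : ℕ∞) + 1) ≤ a + 1 := by exact_mod_cast h
    have h2 : (k : ℕ∞) ≤ a := (ENat.add_le_add_iff_right ENat.one_ne_top).1 h1
    exact_mod_cast h2

section Depth

variable {R : Type u} [CommRing R] [IsNoetherianRing R]

/-- If the local ring of `R/L` at the maximal ideal `m` is Cohen-Macaulay of dimension `≥ k` then
there is a regular sequence of length `k` on `R/L` in `m`. -/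
theorem exists_wreg (m : Ideal R) [hm : m.IsMaximal] (k : ℕ) : ∀ (L : Ideal R), L ≤ m →
    LocCoh.IsCohenMacaulayLocalRing
      (Localization.AtPrime m ⧸ L.map (algebraMap R (Localization.AtPrime m))) →
    (k : WithBot ℕ∞) ≤ ringKrullDim
      (Localization.AtPrime m ⧸ L.map (algebraMap R (Localization.AtPrime m))) →
    ∃ rs : List R, rs.length = k ∧ (∀ r ∈ rs, r ∈ m) ∧ WReg L rs := by
  induction k with
  | zero => exact fun L _ _ _ => ⟨[], rfl, by simp, trivial⟩
  | succ k ih =>
    intro L hL hCM hd
    have h1 : ∀ P ∈ associatedPrimes R (R ⧸ L), ¬ m ≤ P := by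
      intro P hP hle
      have hPp : P.IsPrime := hP.isPrime
      obtain rfl : m = P := hm.eq_of_le hPp.ne_top hle
      obtain ⟨_, x, hx⟩ := (mem_ass_quot_iff L m).1 hP
      -- the maximal ideal of the local ring is associated
      have h2 : maximalIdeal (Localization.AtPrime m) ∈ associatedPrimes (Localization.AtPrime m)
          (Localization.AtPrime m ⧸ L.map (algebraMap R (Localization.AtPrime m))) := by
        refine (mem_ass_quot_iff _ _).2 ⟨inferInstance, algebraMap R _ x, fun a => ?_⟩
        obtain ⟨⟨b, s⟩, hb⟩ := IsLocalization.surj m.primeCompl a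
        simp only at hb
        have hu : IsUnit (algebraMap R (Localization.AtPrime m) s) := IsLocalization.map_units _ s
        rw [← Ideal.unit_mul_mem_iff_mem _ hu (x := a), mul_comm _ a, hb,
          ← Ideal.unit_mul_mem_iff_mem _ hu (x := a * _), ← mul_assoc, mul_comm _ a, hb,
          ← map_mul, IsLocalization.AtPrime.to_map_mem_maximal_iff _ m,
          IsLocalization.algebraMap_mem_map_algebraMap_iff m.primeCompl]
        constructor
        · intro hbm
          exact ⟨1, (Submonoid.one_mem _), by rw [one_mul]; exact (hx b).1 hbm⟩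
        · rintro ⟨t, ht, htb⟩
          have : t * b ∈ m := (hx _).2 (by rwa [mul_assoc])
          exact (hPp.mem_or_mem this).resolve_left ht
      exact not_le_of_dim hCM (le_trans (by exact_mod_cast Nat.le_add_left 1 k) hd) _ h2 le_rfl
    obtain ⟨x, hx, hreg⟩ := exists_reg m {L} (by
      intro I hI
      rw [Finset.mem_singleton] at hI
      subst hI
      exact h1)
    have hreg := hreg _ (Finset.mem_singleton_self _)
    have hLx : L ⊔ Ideal.span {x} ≤ m := sup_le hL ((Ideal.span_singleton_le_iff_mem _).2 hx)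
    have hdim := dim_quot_map_sup hreg m hLx
    have hCM' : LocCoh.IsCohenMacaulayLocalRing (Localization.AtPrime m ⧸
        (L ⊔ Ideal.span {x}).map (algebraMap R (Localization.AtPrime m))) := by
      rw [map_sup_span]
      exact cm_quot_sup hCM ((IsLocalization.AtPrime.to_map_mem_maximal_iff _ m x).2 hx)
        (reg_localization m.primeCompl hreg)
    obtain ⟨rs, hlen, hmem, hrs⟩ := ih (L ⊔ Ideal.span {x}) hLx hCM' (by
      rw [← hdim] at hd
      exact le_of_add_one_le hd)
    exact ⟨x :: rs, by simp [hlen], by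
      intro r hr
      rcases List.mem_cons.1 hr with rfl | hr
      · exact hx
      · exact hmem r hr, hreg, hrs⟩

omit [IsNoetherianRing R] in
theorem le_idealDepth (m L : Ideal R) (rs : List R) (hmem : ∀ r ∈ rs, r ∈ m) (hrs : WReg L rs) :
    (rs.length : ℕ∞) ≤ LocCoh.idealDepth m (R ⧸ L) := by
  unfold LocCoh.idealDepth
  split_ifs with h
  · exact le_top
  · exact le_iSup₂_of_le rs ⟨(isWeaklyRegular_iff L rs).2 hrs, hmem⟩ le_rfl

end Depth

section Main

open GrSyz MvPolynomial Groth.Agent.LoccohA.LES

variable {K : Type u} [Field K] {n : ℕ}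

/-- vanishing of local cohomology of a homogeneous Cohen-Macaulay quotient below the dimension -/
theorem subsingleton_H {L : Ideal (MvPolynomial (Fin n) K)}
    (hL : L.IsHomogeneous (stdGr K (Fin n)))
    (hCM : LocCoh.IsCohenMacaulayRing (MvPolynomial (Fin n) K ⧸ L)) {c : ℕ}
    (hc : L = ⊤ ∨ L.height = c) (i : ℕ) (hi : i + c < n) :
    Subsingleton (LocCoh.H (irrel (stdGr K (Fin n))).toIdeal i (MvPolynomial (Fin n) K ⧸ L)) := by
  apply Groth.Agent.Localalg.DepthLC.subsingleton_H_of_lt_idealDepth
  by_cases hne : L = ⊤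
  · subst hne
    have : Subsingleton (MvPolynomial (Fin n) K ⧸ (⊤ : Ideal (MvPolynomial (Fin n) K))) :=
      Ideal.Quotient.subsingleton_iff.2 rfl
    unfold LocCoh.idealDepth
    rw [if_pos (Subsingleton.elim _ _)]
    exact ENat.natCast_lt_top i
  · have hle := le_irrel hL hne
    have hc' := hc.resolve_left hne
    set m := (irrel (stdGr K (Fin n))).toIdeal with hm
    have h1 := height_add_dim hL hCM m hle
    have hmax : m.IsMaximal := K859.Std.irrel_isMaximal
    rw [Groth.Agent.CalgC.DimFT.height_mvPolynomial_isMaximal n m, hc'] at h1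
    have hdim : ((n - c : ℕ) : WithBot ℕ∞) ≤ ringKrullDim
        (Localization.AtPrime m ⧸ L.map (algebraMap _ (Localization.AtPrime m))) := by
      have hloc := isLocalRing_quot_map m hle
      generalize ringKrullDim
        (Localization.AtPrime m ⧸ L.map (algebraMap _ (Localization.AtPrime m))) = a at h1 ⊢
      induction a with
      | bot =>
        rw [WithBot.add_bot] at h1
        exact absurd h1.symm WithBot.coe_ne_bot
      | coe a =>
        have h3 : (c : ℕ∞) + a = n := by exact_mod_cast h1
        have h4 : ((n - c : ℕ) : ℕ∞) ≤ a := by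
          induction a with
          | top => exact le_top
          | coe a =>
            have h5 : c + a = n := by exact_mod_cast h3
            exact_mod_cast (by omega : n - c ≤ a)
        exact WithBot.coe_le_coe.2 h4
    obtain ⟨rs, hlen, hmem, hrs⟩ := exists_wreg m (n - c) L hle
      (isCohenMacaulayLocalRing_quot_map m hle hCM) hdim
    refine lt_of_lt_of_le ?_ (le_idealDepth m L rs hmem hrs)
    rw [hlen]
    exact_mod_cast (by omega : i < n - c)

theorem nonempty_equiv {J I : Ideal (MvPolynomial (Fin (n + 1)) K)} {h : ℕ}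
    (hJ : J.IsHomogeneous (stdGr K (Fin (n + 1))))
    (hCM : LocCoh.IsCohenMacaulayRing (MvPolynomial (Fin (n + 1)) K ⧸ J))
    (hJI : J ≤ I) (hJh : J.height = h)
    {f : MvPolynomial (Fin (n + 1)) K} {d : ℤ}
    (hf : f ∈ stdGr K (Fin (n + 1)) d) (hreg : ∀ x, f * x ∈ J → x ∈ J) (i : ℕ) (hi : i + h < n) :
    Nonempty (LocCoh.H (irrel (stdGr K (Fin (n + 1)))).toIdeal i
        (MvPolynomial (Fin (n + 1)) K ⧸ (J ⊔ Ideal.span {f} * I)) ≃ₗ[MvPolynomial (Fin (n + 1)) K]
      LocCoh.H (irrel (stdGr K (Fin (n + 1)))).toIdeal i (MvPolynomial (Fin (n + 1)) K ⧸ I)) := by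
  set m := (irrel (stdGr K (Fin (n + 1)))).toIdeal with hm
  have hv : ∀ j : ℕ, j ≤ i → Subsingleton (LocCoh.H m j
      (MvPolynomial (Fin (n + 1)) K ⧸ (J ⊔ Ideal.span {f}))) := by
    intro j hj
    apply subsingleton_H (isHomogeneous_sup_span hJ hf) (isCohenMacaulayRing_quot_sup hCM hreg)
      (c := h + 1) _ j (by omega)
    by_cases hne : J ⊔ Ideal.span {f} = ⊤
    · exact Or.inl hne
    · right
      rw [height_sup_span hJ hCM hf hreg hne, hJh]
      rfl
  have hinj := mulMap_injective hJI hreg
  have hex := exact_mul_proj J I f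
  have hsurj := projMap_surjective J I f
  refine ⟨(LinearEquiv.ofBijective (hmap m i (mulMap J I f)) ⟨?_, ?_⟩).symm⟩
  · cases i with
    | zero =>
      intro x y hxy
      apply (equivGam m _).injective
      apply Subtype.ext
      apply hinj
      rw [← equivGam_hmap, ← equivGam_hmap, hxy]
    | succ i =>
      obtain ⟨δ, _, h2, _⟩ := exists_exact m i (mulMap J I f) (projMap J I f) hinj hex hsurj
      rw [injective_iff_map_eq_zero]
      intro x hx
      obtain ⟨y, rfl⟩ := (h2 x).1 hx
      have := hv i (by omega)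
      rw [Subsingleton.elim y 0, map_zero]
  · obtain ⟨δ, _, _, h3⟩ := exists_exact m i (mulMap J I f) (projMap J I f) hinj hex hsurj
    intro x
    have := hv i le_rfl
    exact (h3 x).1 (Subsingleton.elim _ _)

end Main

end K976.LocCoho
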