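import Groth.Agent.Liaison.K976.Phi
import Groth.Agent.Liaison.K976.GorSup
import Groth.Agent.Liaison.K976.Link
import Groth.Agent.Models.CMSeq
import Groth.Agent.Ega4C.HullCM
import Groth.Agent.S0342

/-!
# Linkage: Cohen-Macaulay and Gorenstein properties
-/

set_option autoImplicit false
universe u v

namespace K976.Main

open K976.Unmixed K976.LocQuot K976.Phi K976.GorLoc K976.GorInd K976.GorSup K976.Link IsLocalRing

section Gen

variable {R : Type u} [CommRing R]

theorem mem_colon_iff {C I : Ideal R} (y : R) :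
    y ∈ C.colon (I : Set R) ↔ ∀ a ∈ I, y * a ∈ C := by
  rw [Submodule.mem_colon]
  rfl

theorem exists_nat_dim (A : Type u) [CommRing A] [IsLocalRing A] [IsNoetherianRing A] :
    ∃ d : ℕ, ringKrullDim A = d := by
  have h1 : ringKrullDim A ≠ ⊥ := ringKrullDim_ne_bot
  have h2 : ringKrullDim A ≠ ⊤ := ringKrullDim_ne_top
  obtain ⟨d, hd⟩ := WithBot.ne_bot_iff_exists.1 h1
  have hdt : d ≠ ⊤ := fun h => h2 (by rw [← hd, h]; rfl)
  obtain ⟨n, hn⟩ := ENat.ne_top_iff_exists.1 hdt
  exact ⟨n, by rw [← hd, ← hn]; rfl⟩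

theorem isGorensteinLocalRing_Lq [IsNoetherianRing R] {C m : Ideal R} [m.IsPrime] (hCm : C ≤ m)
    (hC : LocCoh.IsGorensteinRing (R ⧸ C)) : LocCoh.IsGorensteinLocalRing (Lq C m) :=
  isGorensteinRing_quot_iff.1 hC m hCm

/-- if `C : I = J` and `C : J = I` in a Gorenstein quotient and `R/I` is Cohen-Macaulay, so is
`R/J` -/
theorem cm_of_linked [IsNoetherianRing R] {C I J : Ideal R}
    (hC : LocCoh.IsGorensteinRing (R ⧸ C)) (hIJ : C.colon (I : Set R) = J)
    (hJI : C.colon (J : Set R) = I) (hI : LocCoh.IsCohenMacaulayRing (R ⧸ I)) :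
    LocCoh.IsCohenMacaulayRing (R ⧸ J) := by
  have hCI : C ≤ I := hJI ▸ le_colon C J
  have hCJ : C ≤ J := hIJ ▸ le_colon C I
  rw [isCohenMacaulayRing_quot_iff]
  intro m _ hJm
  have hG := isGorensteinLocalRing_Lq (hCJ.trans hJm) hC
  have hA : LocCoh.IsCohenMacaulayLocalRing (Lq C m) := Groth.Agent.S0341.result _
  obtain ⟨e⟩ := nonempty_quot (m := m) hCJ
  suffices h : LocCoh.IsCohenMacaulayLocalRing (Lq C m ⧸ J.map (phi C m)) from
    Groth.Agent.CalgB.CMPoly.isCohenMacaulayLocalRing_of_ringEquiv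
      (R := Lq C m ⧸ J.map (phi C m)) e
  have hJ' : ∀ y, y ∈ J.map (phi C m) ↔ ∀ a ∈ I.map (phi C m), y * a = 0 :=
    mem_map_colon hCJ (fun y => by rw [← hIJ]; exact mem_colon_iff y)
  have hI' : ∀ y, y ∈ I.map (phi C m) ↔ ∀ a ∈ J.map (phi C m), y * a = 0 :=
    mem_map_colon hCI (fun y => by rw [← hJI]; exact mem_colon_iff y)
  by_cases hIm : I ≤ m
  · obtain ⟨d, hd⟩ := exists_nat_dim (Lq C m)
    have hCMI : LocCoh.IsCohenMacaulayLocalRing (Lq C m ⧸ I.map (phi C m)) := by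
      obtain ⟨e'⟩ := nonempty_quot (m := m) hCI
      have := isCohenMacaulayRing_quot_iff.1 hI m hIm
      exact Groth.Agent.CalgB.CMPoly.isCohenMacaulayLocalRing_of_ringEquiv e'.symm
    refine cm_ann d (Lq C m) (I.map (phi C m)) (J.map (phi C m)) hd hCMI ?_ ?_ hJ'
    · -- an associated prime of `A/I` is an associated prime of `A`
      have := hCMI.toIsLocalRing
      obtain ⟨P, hP⟩ := associatedPrimes.nonempty (Lq C m) (Lq C m ⧸ I.map (phi C m))
      rw [← dim_quot_of_mem_ass hCMI hP]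
      have h1 : I.map (phi C m) = (⊥ : Ideal (Lq C m)).colon ((J.map (phi C m) : Ideal _) : Set _) := by
        ext y
        rw [hI', mem_colon_iff]
        rfl
      rw [h1] at hP
      have h2 := ass_colon_subset _ _ hP
      rw [dim_quot_of_mem_ass (cm_bot hA) h2, dim_bot, hd]
    · rw [Ne, map_phi_eq_top_iff hCJ, not_not]
      exact hJm
  · have h1 : J.map (phi C m) = ⊥ := by
      rw [eq_bot_iff]
      intro y hy
      have := (hJ' y).1 hy 1 (by rw [(map_phi_eq_top_iff hCI).2 hIm]; trivial)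
      simpa using this
    rw [h1]
    exact cm_bot hA

/-- `C : (C + f)` has Gorenstein quotient if `R/(C + f)` is Cohen-Macaulay of the same dimension -/
theorem gor_of_almost [IsNoetherianRing R] {C I : Ideal R} {f : R}
    (hC : LocCoh.IsGorensteinRing (R ⧸ C)) (hI : LocCoh.IsCohenMacaulayRing (R ⧸ I))
    (hIf : I = C ⊔ Ideal.span {f})
    (hdim : ∀ (m : Ideal R) [m.IsPrime], I ≤ m → ringKrullDim (Lq I m) = ringKrullDim (Lq C m)) :
    LocCoh.IsGorensteinRing (R ⧸ C.colon (I : Set R)) := by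
  have hCI : C ≤ I := hIf ▸ le_sup_left
  have hCJ : C ≤ C.colon (I : Set R) := le_colon C I
  set J := C.colon (I : Set R) with hJdef
  rw [isGorensteinRing_quot_iff]
  intro m _ hJm
  have hG := isGorensteinLocalRing_Lq (hCJ.trans hJm) hC
  have hA : LocCoh.IsCohenMacaulayLocalRing (Lq C m) := Groth.Agent.S0341.result _
  obtain ⟨e⟩ := nonempty_quot (m := m) hCJ
  suffices h : LocCoh.IsGorensteinLocalRing (Lq C m ⧸ J.map (phi C m)) from
    Groth.Agent.LoccohB.GorBasic.isGorensteinLocalRing_of_ringEquiv e h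
  have hJ' : ∀ y, y ∈ J.map (phi C m) ↔ ∀ a ∈ I.map (phi C m), y * a = 0 :=
    mem_map_colon hCJ (fun y => by rw [hJdef]; exact mem_colon_iff y)
  have hmapI : I.map (phi C m) = Ideal.span {phi C m f} := by
    rw [hIf, map_sup_span]
    have : C.map (phi C m) = ⊥ := by
      rw [eq_bot_iff, Ideal.map_le_iff_le_comap]
      intro x hx
      rw [Ideal.mem_comap, Submodule.mem_bot, phi_eq_zero_iff]
      exact ⟨1, fun h => Ideal.IsPrime.ne_top ‹m.IsPrime› ((Ideal.eq_top_iff_one m).2 h), by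
        rwa [one_mul]⟩
    rw [this, bot_sup_eq]
  have hJf : ∀ y, y ∈ J.map (phi C m) ↔ y * phi C m f = 0 := by
    intro y
    rw [hJ', hmapI]
    constructor
    · intro h; exact h _ (Ideal.mem_span_singleton_self _)
    · intro h a ha
      obtain ⟨b, rfl⟩ := Ideal.mem_span_singleton.1 ha
      rw [← mul_assoc, h, zero_mul]
  by_cases hIm : I ≤ m
  · obtain ⟨d, hd⟩ := exists_nat_dim (Lq C m)
    obtain ⟨e'⟩ := nonempty_quot (m := m) hCI
    have hCMI : LocCoh.IsCohenMacaulayLocalRing (Lq C m ⧸ I.map (phi C m)) := by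
      have := isCohenMacaulayRing_quot_iff.1 hI m hIm
      exact Groth.Agent.CalgB.CMPoly.isCohenMacaulayLocalRing_of_ringEquiv e'.symm
    refine gor_colon d (Lq C m) (phi C m f) (J.map (phi C m)) ?_ hd (by rwa [← hmapI]) ?_ hJf
    · intro h0
      have h1 : J.map (phi C m) = ⊤ := by
        rw [Ideal.eq_top_iff_one, hJf, h0, mul_zero]
      exact (map_phi_eq_top_iff hCJ).1 h1 hJm
    · rw [← hmapI, ringKrullDim_eq_of_ringEquiv e', hdim m hIm, hd]
  · have h1 : J.map (phi C m) = ⊥ := by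
      rw [eq_bot_iff]
      intro y hy
      have := (hJ' y).1 hy 1 (by rw [(map_phi_eq_top_iff hCI).2 hIm]; trivial)
      simpa using this
    rw [h1]
    exact Groth.Agent.LoccohB.GorBasic.isGorensteinLocalRing_of_ringEquiv
      (RingEquiv.quotientBot (Lq C m)).symm hG

theorem dim_Lq_of_mem_minimalPrimes [IsNoetherianRing R] {C p : Ideal R} [p.IsPrime]
    (hp : p ∈ C.minimalPrimes) : ringKrullDim (Lq C p) = 0 := by
  have h1 : maximalIdeal (Localization.AtPrime p) ∈
      (C.map (algebraMap R (Localization.AtPrime p))).minimalPrimes := by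
    rw [IsLocalization.minimalPrimes_map p.primeCompl, Set.mem_preimage,
      IsLocalization.AtPrime.under_maximalIdeal (Localization.AtPrime p) p]
    exact hp
  have h2 := IsLocalRing.quotient_artinian_of_mem_minimalPrimes_of_isLocalRing _ h1
  have := isLocalRing_quot_map p hp.1.2
  have h3 : Ring.KrullDimLE 0 (Lq C p) := inferInstance
  rw [Ring.krullDimLE_iff] at h3
  exact le_antisymm (by exact_mod_cast h3) ringKrullDim_nonneg_of_nontrivial

/-- double colon by an unmixed ideal -/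
theorem colon_colon_le [IsNoetherianRing R] {C I : Ideal R}
    (hC : LocCoh.IsGorensteinRing (R ⧸ C)) (hCI : C ≤ I)
    (hI : ∀ p ∈ associatedPrimes R (R ⧸ I), p ∈ C.minimalPrimes) :
    C.colon ((C.colon (I : Set R) : Ideal R) : Set R) ≤ I := by
  intro x hx
  by_contra hxI
  obtain ⟨p, hp, hle⟩ := exists_le_isAssociatedPrime_of_isNoetherianRing R
    (Ideal.Quotient.mk I x) (fun h => hxI (Ideal.Quotient.eq_zero_iff_mem.1 h))
  have hpC := hI p hp
  have hpp : p.IsPrime := hp.isPrime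
  have hG := isGorensteinLocalRing_Lq hpC.1.2 hC
  -- dimension zero
  have hdim : ringKrullDim (Lq C p) = 0 := dim_Lq_of_mem_minimalPrimes hpC
  have h1 : phi C p x ∈ I.map (phi C p) := by
    apply ann_ann (Lq C p) hdim
    intro y hy
    have hy' := (mem_map_colon (m := p) (le_colon C I) (fun y => mem_colon_iff y) y).2 hy
    rw [mul_comm]
    exact (mem_map_colon (m := p) (le_colon C (C.colon (I : Set R)))
      (fun y => mem_colon_iff y) (phi C p x)).1 (Ideal.mem_map_of_mem _ hx) y hy'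
  rw [phi_mem_iff hCI] at h1
  obtain ⟨s, hs, hs'⟩ := h1
  apply hs
  apply hle
  rw [Submodule.mem_colon_singleton, Submodule.mem_bot]
  exact Ideal.Quotient.eq_zero_iff_mem.2 hs'

theorem gor_sup_of_linked [IsNoetherianRing R] {C I J : Ideal R}
    (hC : LocCoh.IsGorensteinRing (R ⧸ C)) (hCIJ : C = I ⊓ J)
    (hI : LocCoh.IsCohenMacaulayRing (R ⧸ I)) (hJ : LocCoh.IsCohenMacaulayRing (R ⧸ J))
    (m : Ideal R) [m.IsPrime] (hm : I ⊔ J ≤ m) (d : ℕ)
    (hd : ringKrullDim (Lq C m) = ((d + 1 : ℕ) : WithBot ℕ∞))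
    (hdI : ringKrullDim (Lq I m) = ((d + 1 : ℕ) : WithBot ℕ∞))
    (hdJ : ringKrullDim (Lq J m) = ((d + 1 : ℕ) : WithBot ℕ∞))
    (hdIJ : ringKrullDim (Lq (I ⊔ J) m) ≤ d) :
    LocCoh.IsGorensteinLocalRing (Lq (I ⊔ J) m) ∧ ringKrullDim (Lq (I ⊔ J) m) = d := by
  have hCI : C ≤ I := hCIJ ▸ inf_le_left
  have hCJ : C ≤ J := hCIJ ▸ inf_le_right
  have hIm : I ≤ m := le_sup_left.trans hm
  have hJm : J ≤ m := le_sup_right.trans hm
  have hG := isGorensteinLocalRing_Lq (hCI.trans hIm) hC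
  obtain ⟨eI⟩ := nonempty_quot (m := m) hCI
  obtain ⟨eJ⟩ := nonempty_quot (m := m) hCJ
  obtain ⟨e⟩ := nonempty_quot (m := m) (hCI.trans le_sup_left : C ≤ I ⊔ J)
  have hsup : (I ⊔ J).map (phi C m) = I.map (phi C m) ⊔ J.map (phi C m) := Ideal.map_sup _ _ _
  have hCMI : LocCoh.IsCohenMacaulayLocalRing (Lq C m ⧸ I.map (phi C m)) := by
    have : LocCoh.IsCohenMacaulayLocalRing (Lq I m) := isCohenMacaulayRing_quot_iff.1 hI m hIm
    exact Groth.Agent.CalgB.CMPoly.isCohenMacaulayLocalRing_of_ringEquiv (R := Lq I m) eI.symm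
  have hCMJ : LocCoh.IsCohenMacaulayLocalRing (Lq C m ⧸ J.map (phi C m)) := by
    have : LocCoh.IsCohenMacaulayLocalRing (Lq J m) := isCohenMacaulayRing_quot_iff.1 hJ m hJm
    exact Groth.Agent.CalgB.CMPoly.isCohenMacaulayLocalRing_of_ringEquiv (R := Lq J m) eJ.symm
  obtain ⟨h1, h2⟩ := gor_sup d (Lq C m) (I.map (phi C m)) (J.map (phi C m))
    (by
      rw [← hsup, Ne, map_phi_eq_top_iff (hCI.trans le_sup_left), not_not]
      exact hm)
    (map_inf_eq_bot hCIJ) hd hCMI hCMJ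
    (by rw [ringKrullDim_eq_of_ringEquiv eI, hdI]) (by rw [ringKrullDim_eq_of_ringEquiv eJ, hdJ])
    (by rw [← hsup, ringKrullDim_eq_of_ringEquiv e]; exact hdIJ)
  rw [← hsup] at h1 h2
  exact ⟨Groth.Agent.LoccohB.GorBasic.isGorensteinLocalRing_of_ringEquiv e h1, by
    rw [← ringKrullDim_eq_of_ringEquiv (R := Lq C m ⧸ (I ⊔ J).map (phi C m)) e, h2]⟩

end Gen

/-! ## The polynomial ring -/

section Poly

open GrSyz MvPolynomial

variable {K : Type u} [Field K] {n : ℕ}

theorem dim_Lq_eq {C I : Ideal (MvPolynomial (Fin n) K)}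
    (hC : C.IsHomogeneous (stdGr K (Fin n))) (hI : I.IsHomogeneous (stdGr K (Fin n)))
    (hCM : LocCoh.IsCohenMacaulayRing (MvPolynomial (Fin n) K ⧸ C))
    (hCMI : LocCoh.IsCohenMacaulayRing (MvPolynomial (Fin n) K ⧸ I)) (h : C.height = I.height)
    {c : ℕ} (hc : C.height = c)
    (m : Ideal (MvPolynomial (Fin n) K)) [m.IsPrime] (hCm : C ≤ m) (hIm : I ≤ m) :
    ringKrullDim (Lq I m) = ringKrullDim (Lq C m) := by
  have h1 := height_add_dim hC hCM m hCm
  have h2 := height_add_dim hI hCMI m hIm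
  rw [← h2, ← h, hc] at h1
  have h3 := isLocalRing_quot_map m hCm
  have h4 := isLocalRing_quot_map m hIm
  obtain ⟨a, ha⟩ := exists_nat_dim (Lq I m)
  obtain ⟨b, hb⟩ := exists_nat_dim (Lq C m)
  rw [ha, hb]
  have h5 : (c : WithBot ℕ∞) + b = c + a := by
    have h6 : ((c : ℕ∞) : WithBot ℕ∞) + ringKrullDim (Lq C m) =
        ((c : ℕ∞) : WithBot ℕ∞) + ringKrullDim (Lq I m) := h1
    rw [ha, hb] at h6
    exact h6
  have h7 : c + b = c + a := by exact_mod_cast h5
  have : b = a := by omega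
  rw [this]

/-- a homogeneous (or any) complete intersection in a polynomial ring is Gorenstein -/
theorem gor_of_ci {c : ℕ} (g : Fin c → MvPolynomial (Fin n) K)
    {C : Ideal (MvPolynomial (Fin n) K)} (hC : Ideal.span (Set.range g) = C) (hc : C.height = c) :
    LocCoh.IsGorensteinRing (MvPolynomial (Fin n) K ⧸ C) := by
  rw [isGorensteinRing_quot_iff]
  intro m _ hCm
  have hreg : IsRegularLocalRing (Localization.AtPrime m) := inferInstance
  let rs : List (Localization.AtPrime m) :=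
    List.ofFn fun i => algebraMap _ (Localization.AtPrime m) (g i)
  have hrs : Ideal.ofList rs = C.map (algebraMap _ (Localization.AtPrime m)) := by
    rw [← hC, Ideal.map_span]
    unfold Ideal.ofList
    congr 1
    ext x
    simp only [rs, List.mem_ofFn, Set.mem_ofPred_eq, Set.mem_image, Set.mem_range]
    constructor
    · rintro ⟨i, rfl⟩; exact ⟨_, ⟨i, rfl⟩, rfl⟩
    · rintro ⟨_, ⟨i, rfl⟩, rfl⟩; exact ⟨i, rfl⟩
  have hlen : rs.length = c := by simp [rs]
  have hmem : ∀ r ∈ rs, r ∈ maximalIdeal (Localization.AtPrime m) := by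
    intro r hr
    apply map_le_maximalIdeal m hCm
    rw [← hrs]
    exact Ideal.subset_span hr
  have h1 : RingTheory.Sequence.IsRegular (Localization.AtPrime m) rs := by
    apply Groth.Agent.Models.CMSeq.isRegular_of_ringKrullDim_le rs hmem
    rw [hlen]
    apply Groth.Agent.Ega4C.HullCM.ringKrullDim_quotient_add_le
    rw [hrs, ← hc]
    exact Groth.Agent.Ega4C.HullCM.height_le_height_map m.primeCompl C
  have h2 : Groth.Agent.LoccohB.GorBasic.FID (Localization.AtPrime m) :=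
    (Groth.Agent.LoccohB.GorBasic.isGorensteinLocalRing_iff.1
      (Groth.Agent.S0342.result (Localization.AtPrime m))).2.2
  have h3 := Groth.Agent.LoccohB.GorBasic.FID.quotient_ofList rs h2 h1.toIsWeaklyRegular
  have h4 := isLocalRing_quot_map m hCm
  rw [← hrs] at h4 ⊢
  exact Groth.Agent.LoccohB.GorBasic.isGorensteinLocalRing_iff.2 ⟨inferInstance, h4, h3⟩

theorem aci {c : ℕ} (g : Fin c → MvPolynomial (Fin n) K) (f : MvPolynomial (Fin n) K)
    {C I : Ideal (MvPolynomial (Fin n) K)} (hCg : Ideal.span (Set.range g) = C)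
    (hC : C.IsHomogeneous (stdGr K (Fin n))) (hI : I.IsHomogeneous (stdGr K (Fin n)))
    (hCc : C.height = c) (hIc : I.height = c)
    (hCMI : LocCoh.IsCohenMacaulayRing (MvPolynomial (Fin n) K ⧸ I)) (hlt : C < I)
    (hIf : I = C ⊔ Ideal.span {f}) :
    (C.colon (I : Set (MvPolynomial (Fin n) K))).height = c ∧
      LocCoh.IsGorensteinRing (MvPolynomial (Fin n) K ⧸
        C.colon (I : Set (MvPolynomial (Fin n) K))) := by
  have hG := gor_of_ci g hCg hCc
  have hCM := isCohenMacaulayRing_of_isGorensteinRing hG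
  refine ⟨?_, ?_⟩
  · rw [← hCc]
    exact colon_height hC hCM (not_le_of_gt hlt)
  · exact gor_of_almost hG hCMI hIf fun m _ hIm =>
      dim_Lq_eq hC hI hCM hCMI (hCc.trans hIc.symm) hCc m (hlt.le.trans hIm) hIm

theorem colon_colon {C I : Ideal (MvPolynomial (Fin n) K)}
    (hG : LocCoh.IsGorensteinRing (MvPolynomial (Fin n) K ⧸ C)) {c : ℕ∞}
    (hCc : C.height = c)
    (hIu : ∀ p ∈ associatedPrimes (MvPolynomial (Fin n) K) (MvPolynomial (Fin n) K ⧸ I),
      p.height = c) (hle : C ≤ I) :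
    C.colon ((C.colon (I : Set (MvPolynomial (Fin n) K)) : Ideal (MvPolynomial (Fin n) K)) :
      Set (MvPolynomial (Fin n) K)) = I := by
  apply le_antisymm
  · apply colon_colon_le hG hle
    intro p hp
    have : p.IsPrime := hp.isPrime
    exact mem_minimalPrimes_of_height le_rfl (hle.trans (le_of_mem_ass hp))
      (by rw [hIu p hp, hCc])
  · intro x hx
    rw [mem_colon_iff]
    intro a ha
    rw [mul_comm]
    exact (mem_colon_iff a).1 ha x hx

theorem height_inf {I J : Ideal (MvPolynomial (Fin n) K)} {c : ℕ∞} (hI : I.height = c)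
    (hJ : J.height = c) : (I ⊓ J).height = c := by
  apply le_antisymm
  · exact hI ▸ Ideal.height_mono inf_le_left
  · rw [Ideal.height_eq_inf_minimalPrimes (I := I ⊓ J)]
    refine le_iInf₂ fun p hp => ?_
    have hpp : p.IsPrime := hp.1.1
    rcases hpp.inf_le.1 hp.1.2 with h | h
    · exact hI ▸ Ideal.height_mono h
    · exact hJ ▸ Ideal.height_mono h

theorem sup_main {c : ℕ} {I J : Ideal (MvPolynomial (Fin n) K)}
    (hI : I.IsHomogeneous (stdGr K (Fin n))) (hJ : J.IsHomogeneous (stdGr K (Fin n)))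
    (hCMI : LocCoh.IsCohenMacaulayRing (MvPolynomial (Fin n) K ⧸ I))
    (hCMJ : LocCoh.IsCohenMacaulayRing (MvPolynomial (Fin n) K ⧸ J))
    (hIc : I.height = c) (hJc : J.height = c) (hdisj : Disjoint I.minimalPrimes J.minimalPrimes)
    (hG : LocCoh.IsGorensteinRing (MvPolynomial (Fin n) K ⧸ (I ⊓ J))) :
    (I ⊔ J).height = c + 1 ∧ LocCoh.IsGorensteinRing (MvPolynomial (Fin n) K ⧸ (I ⊔ J)) := by
  have hCM := isCohenMacaulayRing_of_isGorensteinRing hG
  have hC : (I ⊓ J).IsHomogeneous (stdGr K (Fin n)) := hI.inf hJ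
  have hCc : (I ⊓ J).height = c := height_inf hIc hJc
  -- an element of `I + J` regular modulo `I ∩ J`
  obtain ⟨x, hx, hreg⟩ := exists_reg (I ⊔ J) {I ⊓ J} (by
    intro L hL P hP hle
    rw [Finset.mem_singleton] at hL
    subst hL
    have hPp : P.IsPrime := hP.isPrime
    have hh := height_of_mem_ass hC hCM hP
    exact Set.disjoint_left.1 hdisj
      (mem_minimalPrimes_of_height (C := I ⊓ J) inf_le_left (le_sup_left.trans hle) hh)
      (mem_minimalPrimes_of_height (C := I ⊓ J) inf_le_right (le_sup_right.trans hle) hh))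
  have hreg := hreg _ (Finset.mem_singleton_self _)
  have key : ∀ (m : Ideal (MvPolynomial (Fin n) K)) [m.IsPrime], I ⊔ J ≤ m →
      ∃ d : ℕ, ringKrullDim (Lq (I ⊓ J) m) = ((d + 1 : ℕ) : WithBot ℕ∞) ∧
        LocCoh.IsGorensteinLocalRing (Lq (I ⊔ J) m) ∧ ringKrullDim (Lq (I ⊔ J) m) = d := by
    intro m _ hm
    have hIm : I ≤ m := le_sup_left.trans hm
    have hJm : J ≤ m := le_sup_right.trans hm
    have hCm : I ⊓ J ≤ m := inf_le_left.trans hIm
    have hxm : (I ⊓ J) ⊔ Ideal.span {x} ≤ I ⊔ J :=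
      sup_le (inf_le_left.trans le_sup_left) ((Ideal.span_singleton_le_iff_mem _).2 hx)
    have h1 := dim_quot_map_sup hreg m (hxm.trans hm)
    have hloc := isLocalRing_quot_map m (hxm.trans hm)
    obtain ⟨d, hd⟩ := exists_nat_dim (Lq ((I ⊓ J) ⊔ Ideal.span {x}) m)
    have hd' : ringKrullDim (Lq (I ⊓ J) m) = ((d + 1 : ℕ) : WithBot ℕ∞) := by
      have h2 : ringKrullDim (Lq ((I ⊓ J) ⊔ Ideal.span {x}) m) + 1 =
        ringKrullDim (Lq (I ⊓ J) m) := h1
      rw [← h2, hd]
      push_cast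
      rfl
    refine ⟨d, hd', ?_⟩
    refine gor_sup_of_linked hG rfl hCMI hCMJ m hm d hd' ?_ ?_ ?_
    · rw [dim_Lq_eq hC hI hCM hCMI (hCc.trans hIc.symm) hCc m hCm hIm, hd']
    · rw [dim_Lq_eq hC hJ hCM hCMJ (hCc.trans hJc.symm) hCc m hCm hJm, hd']
    · rw [← hd]
      exact dim_quot_le (Ideal.map_mono hxm)
  have hGor : LocCoh.IsGorensteinRing (MvPolynomial (Fin n) K ⧸ (I ⊔ J)) := by
    rw [isGorensteinRing_quot_iff]
    intro m _ hm
    obtain ⟨d, _, h, _⟩ := key m hm
    exact h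
  refine ⟨?_, hGor⟩
  have hIne : I ≠ ⊤ := by
    rintro rfl
    rw [Ideal.height_top] at hIc
    exact ENat.top_ne_natCast c hIc
  have hJne : J ≠ ⊤ := by
    rintro rfl
    rw [Ideal.height_top] at hJc
    exact ENat.top_ne_natCast c hJc
  have hm : I ⊔ J ≤ (irrel (stdGr K (Fin n))).toIdeal :=
    sup_le (le_irrel hI hIne) (le_irrel hJ hJne)
  obtain ⟨d, hd1, _, hd2⟩ := key _ hm
  have h1 := height_add_dim hC hCM _ (inf_le_left.trans (le_sup_left.trans hm))
  have h2 := height_add_dim (hI.sup hJ) (isCohenMacaulayRing_of_isGorensteinRing hGor) _ hm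
  have h3 : ((I ⊓ J).height : WithBot ℕ∞) + ringKrullDim (Lq (I ⊓ J) (irrel (stdGr K (Fin n))).toIdeal)
      = ((I ⊔ J).height : WithBot ℕ∞) +
        ringKrullDim (Lq (I ⊔ J) (irrel (stdGr K (Fin n))).toIdeal) := h1.trans h2.symm
  rw [hd1, hd2, hCc] at h3
  apply (add_right_cancel_dim (d := ((d : ℕ) : WithBot ℕ∞)) (WithBot.coe_ne_bot)
    (fun h => ENat.natCast_ne_top d (WithBot.coe_inj.1 h)) _).symm
  rw [← h3]
  push_cast
  ring_nf

end Poly

end K976.Main
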