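import Groth.Agent.Liaison.K976.Len
import Groth.Agent.Liaison.K976.HGrow
import Groth.Agent.Liaison.K976.Main

/-!
# The associativity formula for Hilbert functions
-/

set_option autoImplicit false
universe u v

namespace K976.Mult

open GrSyz MvPolynomial K976.Unmixed K976.Hilb K976.Growth K976.HGrow K976.Len K976.Phi
  K976.Link K976.Main

variable {K : Type u} [Field K] {n : ℕ}

local notation "R" => MvPolynomial (Fin n) K
local notation "𝒜" => stdGr K (Fin n)

/-- the top-dimensional part of the Hilbert function -/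
theorem formula {c D : ℕ} (hn : n = D + 1 + c) {C : Ideal R}
    (hCc : C.height = c) (S : Finset (PrimeSpectrum R))
    (hS : ∀ p : PrimeSpectrum R, p ∈ S ↔ p.asIdeal ∈ C.minimalPrimes ∧ p.asIdeal.height = c)
    (I : Ideal R) (hCI : C ≤ I) (hI : I.IsHomogeneous 𝒜) :
    ∃ m : PrimeSpectrum R → ℕ, (∀ p ∈ S, ell C p.asIdeal I = m p) ∧
      Gr D (fun j => (hf I j : ℤ) - ∑ p ∈ S, (m p : ℤ) * hf p.asIdeal j) := by
  classical
  have hn' : (n : ℕ∞) = D + 1 + c := by exact_mod_cast hn
  apply Hilb.induction (fun I => ∃ m : PrimeSpectrum R → ℕ, (∀ p ∈ S, ell C p.asIdeal I = m p) ∧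
      Gr D (fun j => (hf I j : ℤ) - ∑ p ∈ S, (m p : ℤ) * hf p.asIdeal j)) C _ _ I hCI hI
  · refine ⟨fun _ => 0, fun p hp => ?_, ?_⟩
    · exact_mod_cast ell_eq_zero le_top (fun h => p.2.ne_top (top_le_iff.1 h))
    · exact (Gr.zero D).congr fun j => by simp [hf_top]
  · intro I g d q hCI hI hg hqp hqh hmem hgI hh ⟨m, hm, hgr1⟩
    obtain ⟨d, rfl⟩ := Int.eq_ofNat_of_zero_le (nonneg_of_notMem hg hgI)
    have hIq : I ≤ q := fun y hy => (hmem y).2 (I.mul_mem_left _ hy)
    have hCq : C ≤ q := hCI.trans hIq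
    have hhc : (c : ℕ∞) ≤ q.height := hCc ▸ Ideal.height_mono hCq
    by_cases hqS : (⟨q, hqp⟩ : PrimeSpectrum R) ∈ S
    · refine ⟨fun p => m p + if p = ⟨q, hqp⟩ then 1 else 0, fun p hp => ?_, ?_⟩
      · beta_reduce
        rw [ell_add hCI hmem, hm p hp]
        by_cases hpq : p = ⟨q, hqp⟩
        · subst hpq
          rw [if_pos rfl]
          push_cast
          congr 1
          exact ell_self hCq
        · rw [if_neg hpq]
          rw [ell_eq_zero hCq, add_zero, add_zero]
          intro hle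
          apply hpq
          exact PrimeSpectrum.ext (le_antisymm (((hS p).1 hp).1.2 ⟨hqp, hCq⟩ hle) hle)
      · have h1 : Gr D (fun j => (hf q j : ℤ) - hf q (j - d)) := by
          apply hgr_shift hqh _ _ d
          · have h2 : q.height = c := ((hS _).1 hqS).2
            rw [h2, hn']
            push_cast
            rfl
          · intro h
            have h2 : q.height = c := ((hS _).1 hqS).2
            rw [h, height_irrel] at h2
            have h3 : n = c := by exact_mod_cast h2
            omega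
        refine (hgr1.sub h1).congr fun j => ?_
        rw [hf_add hI hg hmem j]
        have h2 : ∑ p ∈ S, (((m p + if p = ⟨q, hqp⟩ then 1 else 0 : ℕ)) : ℤ) * (hf p.asIdeal j : ℤ)
            = ∑ p ∈ S, (m p : ℤ) * (hf p.asIdeal j : ℤ) + hf q j := by
          have h3 : ∀ p ∈ S, (((m p + if p = ⟨q, hqp⟩ then 1 else 0 : ℕ)) : ℤ) *
              (hf p.asIdeal j : ℤ) = (m p : ℤ) * (hf p.asIdeal j : ℤ) +
              if p = ⟨q, hqp⟩ then (hf p.asIdeal j : ℤ) else 0 := by
            intro p _
            split_ifs <;> push_cast <;> ring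
          rw [Finset.sum_congr rfl h3, Finset.sum_add_distrib, Finset.sum_ite_eq' S, if_pos hqS]
        rw [h2]
        push_cast
        ring
    · refine ⟨m, fun p hp => ?_, ?_⟩
      · rw [ell_add hCI hmem, hm p hp, ell_eq_zero hCq, add_zero]
        intro hle
        apply hqS
        have : p = ⟨q, hqp⟩ :=
          PrimeSpectrum.ext (le_antisymm (((hS p).1 hp).1.2 ⟨hqp, hCq⟩ hle) hle)
        exact this ▸ hp
      · have h1 : (n : ℕ∞) ≤ D + q.height := by
          have h2 : (c : ℕ∞) < q.height := by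
            refine lt_of_le_of_ne hhc fun h => hqS ?_
            rw [hS]
            exact ⟨mem_minimalPrimes_of_height le_rfl hCq (by rw [← h, hCc]), h.symm⟩
          have h3 := Order.add_one_le_of_lt h2
          rw [hn']
          rw [add_assoc, add_comm (1 : ℕ∞)]
          exact add_le_add_right h3 _
        have h2 : HGr D q := hgr q hqh h1
        refine (hgr1.add (Gr.shift h2 (fun j hj => by rw [hf_neg _ hj]; rfl) d)).congr
          fun j => ?_
        rw [hf_add hI hg hmem j]
        push_cast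
        ring

theorem isHomogeneous_colon {C I : Ideal R} (hC : C.IsHomogeneous 𝒜) (hI : I.IsHomogeneous 𝒜) :
    (C.colon (I : Set R)).IsHomogeneous 𝒜 := by
  classical
  intro j x hx
  rw [mem_colon_iff] at hx ⊢
  intro a ha
  rw [← DirectSum.sum_support_decompose 𝒜 a, Finset.mul_sum]
  refine C.sum_mem fun i _ => ?_
  have h1 := hC (i + j) (hx _ (hI i ha))
  rw [mul_comm x, DirectSum.coe_decompose_mul_add_of_left_mem 𝒜 (SetLike.coe_mem _)] at h1
  rw [mul_comm]
  exact h1

/-- the Hilbert functions of linked ideals -/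
theorem link {c D : ℕ} (hn : n = D + 1 + c) {C I : Ideal R} (hC : C.IsHomogeneous 𝒜)
    (hCc : C.height = c) (hG : LocCoh.IsGorensteinRing (R ⧸ C)) (hCI : C ≤ I)
    (hI : I.IsHomogeneous 𝒜) :
    Gr D (fun j => (hf (C.colon (I : Set R)) j : ℤ) - hf C j + hf I j) := by
  have hJ : (C.colon (I : Set R)).IsHomogeneous 𝒜 := isHomogeneous_colon hC hI
  have hCJ : C ≤ C.colon (I : Set R) := le_colon C I
  have hfin : Set.Finite {p : PrimeSpectrum R | p.asIdeal ∈ C.minimalPrimes ∧
      p.asIdeal.height = c} := by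
    refine Set.Finite.of_finite_image (f := PrimeSpectrum.asIdeal)
      ((Ideal.finite_minimalPrimes_of_isNoetherianRing R C).subset ?_)
      (fun p _ q _ h => PrimeSpectrum.ext h)
    rintro _ ⟨p, hp, rfl⟩
    exact hp.1
  have hS : ∀ p : PrimeSpectrum R, p ∈ hfin.toFinset ↔
      p.asIdeal ∈ C.minimalPrimes ∧ p.asIdeal.height = c := fun p => by simp
  obtain ⟨mC, hmC, h1⟩ := formula hn hCc _ hS C le_rfl hC
  obtain ⟨mI, hmI, h2⟩ := formula hn hCc _ hS I hCI hI
  obtain ⟨mJ, hmJ, h3⟩ := formula hn hCc _ hS (C.colon (I : Set R)) hCJ hJ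
  have key : ∀ p ∈ hfin.toFinset, mJ p + mI p = mC p := by
    intro p hp
    have hpC := ((hS p).1 hp).1
    have h4 := ell_dual (isGorensteinLocalRing_Lq hpC.1.2 hG) (dim_Lq_of_mem_minimalPrimes hpC)
      hCJ (fun y => mem_colon_iff (C := C) (I := I) y)
    rw [hmC p hp, hmI p hp, hmJ p hp] at h4
    exact_mod_cast h4
  refine ((h3.sub h1).add h2).congr fun j => ?_
  have h5 : ∑ p ∈ hfin.toFinset, (mC p : ℤ) * (hf p.asIdeal j : ℤ) =
      ∑ p ∈ hfin.toFinset, (mJ p : ℤ) * (hf p.asIdeal j : ℤ) +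
      ∑ p ∈ hfin.toFinset, (mI p : ℤ) * (hf p.asIdeal j : ℤ) := by
    rw [← Finset.sum_add_distrib]
    refine Finset.sum_congr rfl fun p hp => ?_
    rw [← key p hp]
    push_cast
    ring
  rw [h5]
  ring

end K976.Mult
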