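import Groth.Agent.Liaison.K976.LocQuot

/-!
# The local ring of a quotient ring and its ideals
-/

set_option autoImplicit false
universe u v

namespace K976.Phi

open K976.Unmixed K976.LocQuot IsLocalRing

variable {R : Type u} [CommRing R] (C m : Ideal R) [m.IsPrime]

/-- the local ring of `R/C` at `m` -/
abbrev Lq : Type u := Localization.AtPrime m ⧸ C.map (algebraMap R (Localization.AtPrime m))

/-- the map from `R` to the local ring of `R/C` at `m` -/
noncomputable abbrev phi : R →+* Lq C m :=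
  (Ideal.Quotient.mk (C.map (algebraMap R (Localization.AtPrime m)))).comp
    (algebraMap R (Localization.AtPrime m))

variable {C m}

theorem isUnit_phi {s : R} (hs : s ∉ m) : IsUnit (phi C m s) :=
  (IsLocalization.map_units (Localization.AtPrime m) (⟨s, hs⟩ : m.primeCompl)).map
    (Ideal.Quotient.mk (C.map (algebraMap R (Localization.AtPrime m))))

theorem exists_phi (y : Lq C m) : ∃ (x s : R), s ∉ m ∧ y * phi C m s = phi C m x := by
  obtain ⟨y, rfl⟩ := Ideal.Quotient.mk_surjective y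
  obtain ⟨⟨a, s⟩, ha⟩ := IsLocalization.surj m.primeCompl y
  exact ⟨a, s, s.2, by simp only [phi, RingHom.comp_apply, ← map_mul]; rw [ha]⟩

theorem map_phi (I : Ideal R) : I.map (phi C m) =
    (I.map (algebraMap R (Localization.AtPrime m))).map
      (Ideal.Quotient.mk (C.map (algebraMap R (Localization.AtPrime m)))) :=
  (Ideal.map_map _ _).symm

theorem phi_mem_iff {I : Ideal R} (hCI : C ≤ I) (x : R) :
    phi C m x ∈ I.map (phi C m) ↔ ∃ s ∉ m, s * x ∈ I := by
  rw [map_phi, phi, RingHom.comp_apply, ← Ideal.mem_comap,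
    Ideal.comap_map_of_surjective _ Ideal.Quotient.mk_surjective, ← RingHom.ker_eq_comap_bot,
    Ideal.mk_ker, sup_eq_left.2 (Ideal.map_mono hCI),
    IsLocalization.algebraMap_mem_map_algebraMap_iff m.primeCompl]
  rfl

theorem phi_eq_zero_iff (x : R) : phi C m x = 0 ↔ ∃ s ∉ m, s * x ∈ C := by
  rw [phi, RingHom.comp_apply, Ideal.Quotient.eq_zero_iff_mem,
    IsLocalization.algebraMap_mem_map_algebraMap_iff m.primeCompl]
  rfl

/-- the quotients of the local ring -/
theorem nonempty_quot {I : Ideal R} (hCI : C ≤ I) :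
    Nonempty ((Lq C m ⧸ I.map (phi C m)) ≃+* Lq I m) := by
  rw [map_phi]
  exact ⟨DoubleQuot.quotQuotEquivQuotOfLE (Ideal.map_mono hCI)⟩

/-- colon ideals commute with localization -/
theorem mem_map_colon [IsNoetherianRing R] {I J : Ideal R} (hCJ : C ≤ J)
    (hJ : ∀ y, y ∈ J ↔ ∀ a ∈ I, y * a ∈ C) (y : Lq C m) :
    y ∈ J.map (phi C m) ↔ ∀ a ∈ I.map (phi C m), y * a = 0 := by
  constructor
  · intro hy a ha
    have h1 : J.map (phi C m) ≤ (⊥ : Ideal (Lq C m)).colon {a} := by
      rw [Ideal.map_le_iff_le_comap]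
      intro b hb
      rw [Ideal.mem_comap, Submodule.mem_colon_singleton, Submodule.mem_bot, smul_eq_mul]
      have h2 : I.map (phi C m) ≤ (⊥ : Ideal (Lq C m)).colon {phi C m b} := by
        rw [Ideal.map_le_iff_le_comap]
        intro c hc
        rw [Ideal.mem_comap, Submodule.mem_colon_singleton, Submodule.mem_bot, smul_eq_mul,
          ← map_mul, phi_eq_zero_iff]
        exact ⟨1, fun h => Ideal.IsPrime.ne_top ‹m.IsPrime› ((Ideal.eq_top_iff_one m).2 h), by
          rw [one_mul, mul_comm]; exact (hJ b).1 hb c hc⟩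
      have h3 := h2 ha
      rw [Submodule.mem_colon_singleton, Submodule.mem_bot, smul_eq_mul] at h3
      rw [mul_comm]; exact h3
    have h2 := h1 hy
    rwa [Submodule.mem_colon_singleton, Submodule.mem_bot, smul_eq_mul] at h2
  · intro h
    obtain ⟨x, s, hs, hx⟩ := exists_phi y
    suffices hsuff : phi C m x ∈ J.map (phi C m) by
      rw [← hx, mul_comm] at hsuff
      exact (Ideal.unit_mul_mem_iff_mem _ (isUnit_phi hs)).1 hsuff
    rw [phi_mem_iff hCJ]
    -- generators
    obtain ⟨T, hT⟩ := (IsNoetherian.noetherian I : I.FG)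
    have h1 : ∀ g ∈ T, ∃ t, t ∉ m ∧ t * (x * g) ∈ C := by
      intro g hg
      have h2 : phi C m (x * g) = 0 := by
        rw [map_mul, ← hx, mul_right_comm,
          h _ (Ideal.mem_map_of_mem _ (hT ▸ Ideal.subset_span hg)), zero_mul]
      rw [phi_eq_zero_iff] at h2
      exact h2
    choose! t ht using h1
    refine ⟨∏ g ∈ T, t g, ?_, ?_⟩
    · intro hmem
      obtain ⟨g, hg, hgm⟩ := (Ideal.IsPrime.prod_mem_iff (p := m)).1 hmem
      exact (ht g hg).1 hgm
    · rw [hJ]
      intro a ha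
      have h2 : I ≤ C.colon ({(∏ g ∈ T, t g) * x} : Set R) := by
        rw [← hT, Ideal.span_le]
        intro g hg
        rw [SetLike.mem_coe, Submodule.mem_colon_singleton, smul_eq_mul]
        obtain ⟨w, hw⟩ := Finset.dvd_prod_of_mem t hg
        have : g * ((∏ g ∈ T, t g) * x) = w * (t g * (x * g)) := by rw [hw]; ring
        rw [this]
        exact C.mul_mem_left _ (ht g hg).2
      have h3 := h2 ha
      rw [Submodule.mem_colon_singleton, smul_eq_mul, mul_comm] at h3
      exact h3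

theorem map_inf_eq_bot {I J : Ideal R} (hC : C = I ⊓ J) :
    I.map (phi C m) ⊓ J.map (phi C m) = ⊥ := by
  have hCI : C ≤ I := hC ▸ inf_le_left
  have hCJ : C ≤ J := hC ▸ inf_le_right
  rw [eq_bot_iff]
  rintro y ⟨hyI, hyJ⟩
  obtain ⟨x, s, hs, hx⟩ := exists_phi y
  have h1 : phi C m x ∈ I.map (phi C m) := hx ▸ Ideal.mul_mem_right _ _ hyI
  have h2 : phi C m x ∈ J.map (phi C m) := hx ▸ Ideal.mul_mem_right _ _ hyJ
  rw [phi_mem_iff hCI] at h1
  rw [phi_mem_iff hCJ] at h2
  obtain ⟨a, ha, ha'⟩ := h1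
  obtain ⟨b, hb, hb'⟩ := h2
  have h3 : phi C m x = 0 := by
    rw [phi_eq_zero_iff]
    refine ⟨a * b, fun h => (Ideal.IsPrime.mem_or_mem ‹m.IsPrime› h).elim ha hb, ?_⟩
    rw [hC]
    constructor
    · have : a * b * x = b * (a * x) := by ring
      rw [this]; exact I.mul_mem_left _ ha'
    · have : a * b * x = a * (b * x) := by ring
      rw [this]; exact J.mul_mem_left _ hb'
  rw [h3] at hx
  exact (isUnit_phi hs).mul_left_eq_zero.1 hx

theorem map_phi_eq_top_iff {I : Ideal R} (hCI : C ≤ I) :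
    I.map (phi C m) = ⊤ ↔ ¬ I ≤ m := by
  rw [Ideal.eq_top_iff_one, ← map_one (phi C m), phi_mem_iff hCI]
  constructor
  · rintro ⟨s, hs, hs'⟩ hle
    exact hs (hle (by simpa using hs'))
  · intro h
    obtain ⟨s, hs, hs'⟩ := Set.not_subset.1 h
    exact ⟨s, hs', by simpa using hs⟩

end K976.Phi
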