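import Groth.Agent.GrSyz.K859.Std
import Groth.Agent.CalgB.CMPoly
import Groth.Agent.CalgB.CM2
import Groth.Agent.Ega4A.CMCatenary
import Groth.Agent.Ega4A.CMAss
import Mathlib.RingTheory.GradedAlgebra.Radical
import Mathlib.RingTheory.Ideal.KrullsHeightTheorem

/-!
# Unmixedness of homogeneous Cohen-Macaulay ideals of polynomial rings
-/

set_option autoImplicit false
universe u v

namespace K976.Unmixed

open GrSyz MvPolynomial

/-! ## Homogeneous ideals -/

section Hom

variable {K : Type u} [Field K] {σ : Type v}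

/-- a proper homogeneous ideal is contained in the irrelevant ideal -/
theorem le_irrel {I : Ideal (MvPolynomial σ K)} (hI : I.IsHomogeneous (stdGr K σ))
    (hne : I ≠ ⊤) : I ≤ (irrel (stdGr K σ)).toIdeal := by
  classical
  intro p hp
  rw [← DirectSum.sum_support_decompose (stdGr K σ) p]
  refine Ideal.sum_mem _ fun n _ => ?_
  by_contra h
  have h1 := K859.Std.isUnit_of_notMem_irrel (SetLike.coe_mem (DirectSum.decompose (stdGr K σ) p n)) h
  exact hne (Ideal.eq_top_of_isUnit_mem _ (hI n hp) h1.2)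

theorem isHomogeneous_of_mem_minimalPrimes {I p : Ideal (MvPolynomial σ K)}
    (hI : I.IsHomogeneous (stdGr K σ)) (hp : p ∈ I.minimalPrimes) :
    p.IsHomogeneous (stdGr K σ) := by
  have hpp : p.IsPrime := hp.1.1
  have h1 : (p.homogeneousCore (stdGr K σ)).toIdeal.IsPrime := hpp.homogeneousCore
  have h2 : I ≤ (p.homogeneousCore (stdGr K σ)).toIdeal := by
    rw [← hI.toIdeal_homogeneousCore_eq_self]
    exact Ideal.homogeneousCore_mono (stdGr K σ) hp.1.2
  have h3 := hp.2 ⟨h1, h2⟩ (Ideal.toIdeal_homogeneousCore_le (stdGr K σ) p)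
  have h4 : (p.homogeneousCore (stdGr K σ)).toIdeal = p :=
    le_antisymm (Ideal.toIdeal_homogeneousCore_le (stdGr K σ) p) h3
  rw [← h4]
  exact (p.homogeneousCore (stdGr K σ)).2

theorem le_irrel_of_mem_minimalPrimes {I p : Ideal (MvPolynomial σ K)}
    (hI : I.IsHomogeneous (stdGr K σ)) (hp : p ∈ I.minimalPrimes) :
    p ≤ (irrel (stdGr K σ)).toIdeal :=
  le_irrel (isHomogeneous_of_mem_minimalPrimes hI hp) hp.1.1.ne_top

end Hom

/-! ## Associated primes of a quotient ring -/

section Ass

variable {R : Type u} [CommRing R]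

theorem mem_ass_quot_iff [IsNoetherianRing R] (I p : Ideal R) :
    p ∈ associatedPrimes R (R ⧸ I) ↔ p.IsPrime ∧ ∃ x : R, ∀ a, a ∈ p ↔ a * x ∈ I := by
  rw [AssociatedPrimes.mem_iff, isAssociatedPrime_iff]
  refine and_congr Iff.rfl ⟨?_, ?_⟩
  · rintro ⟨x, hx⟩
    obtain ⟨x, rfl⟩ := Ideal.Quotient.mk_surjective x
    refine ⟨x, fun a => ?_⟩
    rw [hx, Submodule.mem_colon_singleton, Submodule.mem_bot, ← Ideal.Quotient.eq_zero_iff_mem,
      map_mul]
    rfl
  · rintro ⟨x, hx⟩
    refine ⟨Ideal.Quotient.mk I x, ?_⟩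
    ext a
    rw [hx, Submodule.mem_colon_singleton, Submodule.mem_bot, ← Ideal.Quotient.eq_zero_iff_mem,
      map_mul]
    rfl

theorem le_of_mem_ass [IsNoetherianRing R] {I p : Ideal R} (hp : p ∈ associatedPrimes R (R ⧸ I)) :
    I ≤ p := by
  obtain ⟨_, x, hx⟩ := (mem_ass_quot_iff I p).1 hp
  exact fun a ha => (hx a).2 (I.mul_mem_right _ ha)

theorem mem_ass_of_mem_minimalPrimes [IsNoetherianRing R] {I p : Ideal R}
    (hp : p ∈ I.minimalPrimes) : p ∈ associatedPrimes R (R ⧸ I) := by
  apply Module.associatedPrimes.minimalPrimes_annihilator_subset_associatedPrimes R (R ⧸ I)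
  rwa [Ideal.annihilator_quotient]

/-- An element not in any associated prime of `R/I` is a nonzerodivisor on `R/I`. -/
theorem mem_of_mul_mem [IsNoetherianRing R] {I : Ideal R} {x y : R}
    (hx : ∀ p ∈ associatedPrimes R (R ⧸ I), x ∉ p) (hxy : x * y ∈ I) : y ∈ I := by
  by_contra hy
  have h0 : (Ideal.Quotient.mk I y) ≠ 0 := fun h => hy (Ideal.Quotient.eq_zero_iff_mem.1 h)
  obtain ⟨P, hP, hle⟩ := exists_le_isAssociatedPrime_of_isNoetherianRing R _ h0
  refine hx P hP (hle ?_)
  rw [Submodule.mem_colon_singleton, Submodule.mem_bot]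
  exact Ideal.Quotient.eq_zero_iff_mem.2 hxy

/-- the associated primes of `R/(I : J)` are among those of `R/I` -/
theorem ass_colon_subset [IsNoetherianRing R] (I J : Ideal R) :
    associatedPrimes R (R ⧸ I.colon (J : Set R)) ⊆ associatedPrimes R (R ⧸ I) := by
  intro p hp
  obtain ⟨hpp, x, hx⟩ := (mem_ass_quot_iff _ p).1 hp
  obtain ⟨s, hs⟩ := (IsNoetherian.noetherian J : J.FG)
  -- `p` is the intersection of the `(I : x g)` for `g ∈ s`
  have h1 : ∀ a, a ∈ p ↔ ∀ g ∈ s, a * (x * g) ∈ I := by
    intro a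
    rw [hx, Submodule.mem_colon]
    constructor
    · intro h g hg
      have := h g (hs ▸ Ideal.subset_span hg)
      rwa [smul_eq_mul, mul_assoc] at this
    · intro h g hg
      have h2 : J ≤ I.colon ({a * x} : Set R) := by
        rw [← hs, Ideal.span_le]
        intro g hg
        rw [SetLike.mem_coe, Submodule.mem_colon_singleton, smul_eq_mul]
        have := h g hg
        rwa [← mul_assoc, mul_comm] at this
      have := h2 hg
      rw [Submodule.mem_colon_singleton, smul_eq_mul] at this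
      rwa [smul_eq_mul, mul_comm]
  -- so one of them equals `p`
  have h2 : (s.inf fun g => I.colon ({x * g} : Set R)) ≤ p := by
    intro a ha
    rw [h1]
    intro g hg
    have := (Finset.inf_le hg : (s.inf fun g => I.colon ({x * g} : Set R)) ≤ _) ha
    rwa [Submodule.mem_colon_singleton, smul_eq_mul] at this
  obtain ⟨g, hg, hgp⟩ := (hpp.inf_le').1 h2
  refine (mem_ass_quot_iff _ p).2 ⟨hpp, x * g, fun a => ⟨fun ha => (h1 a).1 ha g hg, fun ha => ?_⟩⟩
  apply hgp
  rwa [Submodule.mem_colon_singleton, smul_eq_mul]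

end Ass

/-! ## Cohen-Macaulay quotients -/

section CM

variable {R : Type u} [CommRing R]

/-- A local ring which is a localization of a Cohen-Macaulay ring is a Cohen-Macaulay local ring. -/
theorem isCohenMacaulayLocalRing_of_isLocalization {S : Type u} [CommRing S]
    [Algebra R S] (M : Submonoid R) [IsLocalization M S] [IsLocalRing S]
    (h : LocCoh.IsCohenMacaulayRing R) : LocCoh.IsCohenMacaulayLocalRing S := by
  let m := IsLocalRing.maximalIdeal S
  let p := m.comap (algebraMap R S)
  have h1 : IsLocalization.AtPrime S m :=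
    IsLocalization.of_le_isUnit (fun x => by
      rintro hx
      by_contra hc
      exact hx ((IsLocalRing.mem_maximalIdeal x).2 hc))
  have h2 : IsLocalization.AtPrime S p :=
    IsLocalization.isLocalization_isLocalization_atPrime_isLocalization M S m
  have := h.isCohenMacaulayLocalRing_localization p
  exact Groth.Agent.CalgB.CMPoly.isCohenMacaulayLocalRing_of_ringEquiv
    (IsLocalization.algEquiv p.primeCompl (Localization.AtPrime p) S).toRingEquiv

theorem comap_map_mk_eq {I p : Ideal R} (hIp : I ≤ p) :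
    (p.map (Ideal.Quotient.mk I)).comap (Ideal.Quotient.mk I) = p := by
  rw [Ideal.comap_map_of_surjective _ Ideal.Quotient.mk_surjective]
  rw [← RingHom.ker_eq_comap_bot, Ideal.mk_ker, sup_eq_left]
  exact hIp

/-- associated primes of `R/I` over `R` and over `R/I` -/
theorem map_mem_ass [IsNoetherianRing R] {I p : Ideal R}
    (hp : p ∈ associatedPrimes R (R ⧸ I)) :
    p.map (Ideal.Quotient.mk I) ∈ associatedPrimes (R ⧸ I) (R ⧸ I) := by
  obtain ⟨hpp, x, hx⟩ := (mem_ass_quot_iff I p).1 hp
  have hIp := le_of_mem_ass hp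
  have hqp : (p.map (Ideal.Quotient.mk I)).IsPrime :=
    Ideal.map_isPrime_of_surjective Ideal.Quotient.mk_surjective (by rwa [Ideal.mk_ker])
  rw [AssociatedPrimes.mem_iff, isAssociatedPrime_iff]
  refine ⟨hqp, Ideal.Quotient.mk I x, ?_⟩
  ext a
  obtain ⟨a, rfl⟩ := Ideal.Quotient.mk_surjective a
  rw [Submodule.mem_colon_singleton, Submodule.mem_bot, smul_eq_mul, ← map_mul,
    Ideal.Quotient.eq_zero_iff_mem, ← hx, ← Ideal.mem_comap, comap_map_mk_eq hIp]

/-- associated primes of a Cohen-Macaulay quotient are minimal -/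
theorem mem_minimalPrimes_of_mem_ass [IsNoetherianRing R] {I : Ideal R}
    (hCM : LocCoh.IsCohenMacaulayRing (R ⧸ I)) {p : Ideal R}
    (hp : p ∈ associatedPrimes R (R ⧸ I)) : p ∈ I.minimalPrimes := by
  have h1 := map_mem_ass hp
  have hqp : (p.map (Ideal.Quotient.mk I)).IsPrime := h1.isPrime
  have h2 := Groth.Agent.Ega4A.CMAss.mem_minimalPrimes_of_isCohenMacaulayLocalRing _
    (hCM.isCohenMacaulayLocalRing_localization _) h1
  rw [Ideal.minimalPrimes_eq_comap]
  exact ⟨_, h2, comap_map_mk_eq (le_of_mem_ass hp)⟩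

/-- associated primes of a Cohen-Macaulay local quotient have the same dimension -/
theorem dim_quot_of_mem_ass [IsNoetherianRing R] {I : Ideal R}
    (hCM : LocCoh.IsCohenMacaulayLocalRing (R ⧸ I)) {p : Ideal R}
    (hp : p ∈ associatedPrimes R (R ⧸ I)) : ringKrullDim (R ⧸ p) = ringKrullDim (R ⧸ I) := by
  have h1 := Groth.Agent.CalgB.CM2.ringKrullDim_quotient_of_mem_associatedPrimes
    (R := R ⧸ I) (M := R ⧸ I) hCM.supportDim_eq_depth (map_mem_ass hp)
  rw [Module.supportDim_self_eq_ringKrullDim] at h1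
  rw [← h1]
  exact (ringKrullDim_eq_of_ringEquiv
    (DoubleQuot.quotQuotEquivQuotOfLE (le_of_mem_ass hp))).symm

/-- In a Cohen-Macaulay local ring with a Cohen-Macaulay quotient by `I` the minimal primes `p` of
`I` satisfy `ht p + dim R/I = dim R`. -/
theorem height_add_of_local [LocCoh.IsCohenMacaulayLocalRing R] {I : Ideal R}
    (hCM : LocCoh.IsCohenMacaulayLocalRing (R ⧸ I)) {p : Ideal R} (hp : p ∈ I.minimalPrimes) :
    (p.height : WithBot ℕ∞) + ringKrullDim (R ⧸ I) = ringKrullDim R := by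
  have hpp : p.IsPrime := hp.1.1
  have h1 := Groth.Agent.Ega4A.CMCatenary.height_add_ringKrullDim_quotient (R := R) (M := R)
    (LocCoh.IsCohenMacaulayLocalRing.supportDim_eq_depth (R := R))
    (by rw [Module.support_eq_zeroLocus, Module.annihilator_eq_bot.2 inferInstance]; simp) p
  rw [← h1]
  congr 1
  have h2 := Groth.Agent.Ega4A.CMAss.isEquidim_of_isCohenMacaulayModule (R := R ⧸ I) (M := R ⧸ I)
    (LocCoh.IsCohenMacaulayLocalRing.supportDim_eq_depth (R := R ⧸ I))
    (by rw [Module.support_eq_zeroLocus, Module.annihilator_eq_bot.2 inferInstance]; simp)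
  obtain ⟨q, hq, hqp⟩ := (Ideal.minimalPrimes_eq_comap (I := I)) ▸ hp
  have h3 := h2 q hq
  rw [← h3]
  have hqp' : p.map (Ideal.Quotient.mk I) = q := by
    rw [← hqp, Ideal.map_comap_of_surjective _ Ideal.Quotient.mk_surjective]
  rw [← hqp']
  exact ringKrullDim_eq_of_ringEquiv (DoubleQuot.quotQuotEquivQuotOfLE hp.1.2)

theorem map_le_maximalIdeal (m : Ideal R) [m.IsPrime] {I : Ideal R} (hIm : I ≤ m) :
    I.map (algebraMap R (Localization.AtPrime m)) ≤
      IsLocalRing.maximalIdeal (Localization.AtPrime m) := by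
  rw [Ideal.map_le_iff_le_comap]
  refine hIm.trans (le_of_eq ?_)
  exact (IsLocalization.AtPrime.under_maximalIdeal (Localization.AtPrime m) m).symm

theorem isLocalRing_quot {A : Type u} [CommRing A] [IsLocalRing A] {I : Ideal A}
    (hI : I ≤ IsLocalRing.maximalIdeal A) : IsLocalRing (A ⧸ I) :=
  have hne : I ≠ ⊤ := fun h =>
    (IsLocalRing.maximalIdeal.isMaximal A).ne_top (top_le_iff.1 (h ▸ hI))
  have : Nontrivial (A ⧸ I) := Ideal.Quotient.nontrivial_iff.2 hne
  IsLocalRing.of_surjective' _ Ideal.Quotient.mk_surjective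

theorem isLocalRing_quot_map (m : Ideal R) [m.IsPrime] {I : Ideal R} (hIm : I ≤ m) :
    IsLocalRing (Localization.AtPrime m ⧸ I.map (algebraMap R (Localization.AtPrime m))) :=
  isLocalRing_quot (map_le_maximalIdeal m hIm)

/-- the local ring of a Cohen-Macaulay quotient -/
theorem isCohenMacaulayLocalRing_quot_map (m : Ideal R) [m.IsPrime] {I : Ideal R} (hIm : I ≤ m)
    (hCM : LocCoh.IsCohenMacaulayRing (R ⧸ I)) :
    LocCoh.IsCohenMacaulayLocalRing
      (Localization.AtPrime m ⧸ I.map (algebraMap R (Localization.AtPrime m))) :=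
  have := isLocalRing_quot_map m hIm
  isCohenMacaulayLocalRing_of_isLocalization
      (Algebra.algebraMapSubmonoid (R ⧸ I) m.primeCompl) hCM

theorem height_add_of_le [IsNoetherianRing R] (m : Ideal R) [m.IsPrime]
    (hR : LocCoh.IsCohenMacaulayRing R) {I : Ideal R}
    (hCM : LocCoh.IsCohenMacaulayRing (R ⧸ I)) {p : Ideal R} (hp : p ∈ I.minimalPrimes)
    (hpm : p ≤ m) :
    (p.height : WithBot ℕ∞) + ringKrullDim
      (Localization.AtPrime m ⧸ I.map (algebraMap R (Localization.AtPrime m))) = m.height := by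
  have hpp : p.IsPrime := hp.1.1
  let B := Localization.AtPrime m
  have hB : LocCoh.IsCohenMacaulayLocalRing B := hR.isCohenMacaulayLocalRing_localization m
  have hC : LocCoh.IsCohenMacaulayLocalRing (B ⧸ I.map (algebraMap R B)) :=
    isCohenMacaulayLocalRing_quot_map m (hp.1.2.trans hpm) hCM
  have hdisj : Disjoint (m.primeCompl : Set R) (p : Set R) := by
    rw [Set.disjoint_left]
    exact fun x hx hxr => hx (hpm hxr)
  have h1 : (p.map (algebraMap R B)) ∈ (I.map (algebraMap R B)).minimalPrimes := by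
    rw [IsLocalization.minimalPrimes_map m.primeCompl, Set.mem_preimage]
    rwa [IsLocalization.under_map_of_isPrime_disjoint m.primeCompl B hpp hdisj]
  have h2 := height_add_of_local hC h1
  rwa [IsLocalization.height_map_of_disjoint m.primeCompl p hdisj,
    IsLocalization.AtPrime.ringKrullDim_eq_height m B] at h2

theorem add_right_cancel_dim {a b : ℕ∞} {d : WithBot ℕ∞} (h3 : d ≠ ⊥) (h4 : d ≠ ⊤)
    (h1 : (a : WithBot ℕ∞) + d = b + d) : a = b := by
  obtain ⟨d, rfl⟩ := WithBot.ne_bot_iff_exists.1 h3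
  have h5 : a + d = b + d := by exact_mod_cast h1
  have hdt : d ≠ ⊤ := fun h => h4 (by rw [h]; rfl)
  exact (ENat.add_left_injective_of_ne_top hdt) h5

/-- Minimal primes of a Cohen-Macaulay ideal inside a common prime have the same height. -/
theorem height_eq_of_le [IsNoetherianRing R] (m : Ideal R) [m.IsPrime]
    (hR : LocCoh.IsCohenMacaulayRing R) {I : Ideal R}
    (hCM : LocCoh.IsCohenMacaulayRing (R ⧸ I)) {p q : Ideal R} (hp : p ∈ I.minimalPrimes)
    (hpm : p ≤ m) (hq : q ∈ I.minimalPrimes) (hqm : q ≤ m) : p.height = q.height := by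
  have h1 := height_add_of_le m hR hCM hp hpm
  have h2 := height_add_of_le m hR hCM hq hqm
  rw [← h2] at h1
  have := isLocalRing_quot_map m (hp.1.2.trans hpm)
  exact add_right_cancel_dim ringKrullDim_ne_bot ringKrullDim_ne_top h1

end CM

/-! ## Homogeneous Cohen-Macaulay ideals -/

section HomCM

variable {K : Type u} [Field K]

theorem isCohenMacaulayRing_mvPolynomial (n : ℕ) :
    LocCoh.IsCohenMacaulayRing (MvPolynomial (Fin n) K) :=
  have : LocCoh.IsCohenMacaulayRing K := {
    isCohenMacaulayLocalRing_localization := fun p hp => by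
      have h0 : p = ⊥ := (Ideal.eq_bot_or_top p).resolve_right hp.ne_top
      subst h0
      apply Groth.Agent.CalgB.CMPoly.isCohenMacaulayLocalRing_of_seq ([] : List _) (by simp)
        (RingTheory.Sequence.IsWeaklyRegular.nil _ _)
      rw [IsLocalization.AtPrime.ringKrullDim_eq_height (⊥ : Ideal K)]
      simp }
  Groth.Agent.CalgB.CMPoly.isCohenMacaulayRing_mvPolynomial K n

/-- A homogeneous ideal with Cohen-Macaulay quotient is unmixed: all associated primes have the
height of the ideal. -/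
theorem height_of_mem_ass {n : ℕ} {I : Ideal (MvPolynomial (Fin n) K)}
    (hI : I.IsHomogeneous (stdGr K (Fin n)))
    (hCM : LocCoh.IsCohenMacaulayRing (MvPolynomial (Fin n) K ⧸ I))
    {p : Ideal (MvPolynomial (Fin n) K)}
    (hp : p ∈ associatedPrimes (MvPolynomial (Fin n) K) (MvPolynomial (Fin n) K ⧸ I)) :
    p.height = I.height := by
  have hp' := mem_minimalPrimes_of_mem_ass hCM hp
  have : p.IsPrime := hp'.1.1
  apply le_antisymm _ (Ideal.height_mono hp'.1.2)
  rw [Ideal.height_eq_inf_minimalPrimes (I := I)]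
  refine le_iInf₂ fun q hq => le_of_eq ?_
  exact height_eq_of_le (irrel (stdGr K (Fin n))).toIdeal (isCohenMacaulayRing_mvPolynomial n) hCM
    hp' (le_irrel_of_mem_minimalPrimes hI hp') hq (le_irrel_of_mem_minimalPrimes hI hq)

/-- For a homogeneous ideal with Cohen-Macaulay quotient and every prime `m` containing it,
`ht I + dim (R/I)_m = ht m`. -/
theorem height_add_dim {n : ℕ} {I : Ideal (MvPolynomial (Fin n) K)}
    (hI : I.IsHomogeneous (stdGr K (Fin n)))
    (hCM : LocCoh.IsCohenMacaulayRing (MvPolynomial (Fin n) K ⧸ I))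
    (m : Ideal (MvPolynomial (Fin n) K)) [m.IsPrime] (hIm : I ≤ m) :
    (I.height : WithBot ℕ∞) + ringKrullDim
      (Localization.AtPrime m ⧸ I.map (algebraMap _ (Localization.AtPrime m))) = m.height := by
  obtain ⟨p, hp, hpm⟩ := Ideal.exists_minimalPrimes_le hIm
  rw [← height_of_mem_ass hI hCM (mem_ass_of_mem_minimalPrimes hp)]
  exact height_add_of_le m (isCohenMacaulayRing_mvPolynomial n) hCM hp hpm

end HomCM

end K976.Unmixed
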